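import Groth.Prelude.Def_StGerb
import Groth.Agent.FibBase.Fp
import Groth.Agent.FibBase.Basic

/-!
# Relative gerbes: composition, base change, descent
-/

set_option backward.isDefEq.respectTransparency false
set_option backward.isDefEq.respectTransparency.types false

universe v₅ u₅ v₄ u₄ v₃ u₃ v₂ u₂ v u

open CategoryTheory CategoryTheory.Functor

namespace Groth.Agent.GerbLib

open Groth.Agent.FibBase

variable {C : Type u} [Category.{v} C] {J : GrothendieckTopology C}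
  {𝒳 : BasedCategory.{v₂, u₂} C} {𝒴 : BasedCategory.{v₃, u₃} C} {𝒵 : BasedCategory.{v₄, u₄} C}

variable (h𝒳 : FibCat.IsFibGrpd 𝒳.p) (F : 𝒳 ⥤ᵇ 𝒴)

/-- The sieve on which an object of the target comes from the source. -/
def objSieve (y : 𝒴.obj) : Sieve (𝒴.p.obj y) where
  arrows V f := ∃ (x : 𝒳.obj) (g : F.obj x ⟶ y), 𝒴.p.IsHomLift f g
  downward_closed := by
    rintro V W f ⟨x, g, hg⟩ k
    have hx : 𝒳.p.obj x = V := (F.w_obj x).symm.trans (IsHomLift.domain_eq 𝒴.p f g)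
    obtain ⟨x', φ, hφ⟩ := exists_lift_of_eq h𝒳 hx k
    exact ⟨x', F.map φ ≫ g, inferInstance⟩

/-- The sieve on which a morphism between images lifts. -/
def homSieve {x₀ x : 𝒳.obj} (β : F.obj x₀ ⟶ F.obj x) : Sieve (𝒳.p.obj x₀) where
  arrows V f := ∃ (x₁ : 𝒳.obj) (a : x₁ ⟶ x₀) (a' : x₁ ⟶ x), 𝒳.p.IsHomLift f a ∧ F.map a ≫ β = F.map a'
  downward_closed := by
    rintro V W f ⟨x₁, a, a', ha, e⟩ k
    obtain ⟨x', φ, hφ⟩ := exists_lift_of_eq h𝒳 (IsHomLift.domain_eq 𝒳.p f a) k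
    exact ⟨x', φ ≫ a, φ ≫ a', inferInstance, by rw [F.map_comp, F.map_comp, Category.assoc, e]⟩

variable {F}

theorem locSurjObj_iff : Gerb.LocSurjObj J F ↔ ∀ y, objSieve h𝒳 F y ∈ J (𝒴.p.obj y) := by
  refine ⟨fun h y => ?_, fun h y => ⟨_, h y, fun _ _ hf => hf⟩⟩
  obtain ⟨R, hR, hR'⟩ := h y
  exact J.superset_covering (fun V f hf => hR' f hf) hR

/-- Morphisms between images lift locally, whatever they lie over. -/
theorem homSieve_mem (h𝒴 : FibCat.IsFibGrpd 𝒴.p) (hF : Gerb.LocSurjHom J F) {x₀ x : 𝒳.obj}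
    (β : F.obj x₀ ⟶ F.obj x) : homSieve h𝒳 F β ∈ J (𝒳.p.obj x₀) := by
  let k : 𝒳.p.obj x₀ ⟶ 𝒳.p.obj x := eqToHom (F.w_obj x₀).symm ≫ 𝒴.p.map β ≫ eqToHom (F.w_obj x)
  have hβ : 𝒴.p.IsHomLift k β := IsHomLift.of_fac' _ k β (F.w_obj x₀) (F.w_obj x) (by simp [k])
  obtain ⟨x₁, χ, hχ⟩ := h𝒳.exists_lift k
  obtain ⟨c, hc, hce⟩ := exists_iso_of_lifts (p := 𝒴.p) k (F.map χ) β
  obtain ⟨R, hR, hR'⟩ := hF x₀ x₁ c.hom hc
  refine J.superset_covering (fun V f hf => ?_) hR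
  obtain ⟨x₂, φ, ψ, hφ, hψ, e⟩ := hR' f hf
  refine ⟨x₂, φ, ψ ≫ χ, hφ, ?_⟩
  rw [← hce, ← Category.assoc, e, F.map_comp]

/-- To show that morphisms lift locally it suffices to do it on a covering. -/
theorem locSurjHom_of (h : ∀ (x x' : 𝒳.obj) (b : F.obj x ⟶ F.obj x'), 𝒴.p.IsHomLift (𝟙 (𝒳.p.obj x)) b →
    homSieve h𝒳 F b ∈ J (𝒳.p.obj x)) : Gerb.LocSurjHom J F := by
  intro x x' b hb
  refine ⟨_, h x x' b hb, fun V f hf => ?_⟩
  obtain ⟨x₁, a, a', ha, e⟩ := hf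
  refine ⟨x₁, a, a', ha, ?_, e⟩
  rw [← F.isHomLift_iff, ← e]
  have : 𝒴.p.IsHomLift f (F.map a) := inferInstance
  exact IsHomLift.comp_lift_id_right 𝒴.p f (F.map a) b

/-- Coverings can be refined by lifting the objects. -/
theorem mem_of_forall_fiber {U : C} (R : Sieve U) (T : Sieve U) (hR : R ∈ J U)
    (h : ∀ ⦃V : C⦄ (f : V ⟶ U), R f → ∃ R' ∈ J V, ∀ ⦃W : C⦄ (k : W ⟶ V), R' k → T (k ≫ f)) : T ∈ J U := by
  refine J.transitive hR T fun V f hf => ?_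
  obtain ⟨R', hR', hR''⟩ := h f hf
  exact J.superset_covering (fun W k hk => hR'' k hk) hR'

include h𝒳

theorem isGerbeOver_comp (h𝒴 : FibCat.IsFibGrpd 𝒴.p) (h𝒵 : FibCat.IsFibGrpd 𝒵.p) {G : 𝒴 ⥤ᵇ 𝒵}
    (hF : Gerb.IsGerbeOver J F) (hG : Gerb.IsGerbeOver J G) : Gerb.IsGerbeOver J (BasedFunctor.comp F G) := by
  constructor
  · rw [locSurjObj_iff h𝒳]
    intro z
    obtain ⟨R, hR, hR'⟩ := hG.1 z
    refine mem_of_forall_fiber R _ hR fun V f hf => ?_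
    obtain ⟨y, g, hg⟩ := hR' f hf
    obtain rfl : 𝒴.p.obj y = V := (G.w_obj y).symm.trans (IsHomLift.domain_eq 𝒵.p f g)
    refine ⟨_, (locSurjObj_iff h𝒳).1 hF.1 y, ?_⟩
    rintro W k ⟨x, g', hg'⟩
    refine ⟨x, G.map g' ≫ g, ?_⟩
    exact (inferInstance : 𝒵.p.IsHomLift (k ≫ f) (G.map g' ≫ g))
  · refine locSurjHom_of h𝒳 fun x x' b hb => ?_
    have hR : homSieve h𝒴 G b ∈ J (𝒴.p.obj (F.obj x)) := homSieve_mem h𝒴 h𝒵 hG.2 (x₀ := F.obj x) (x := F.obj x') b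
    have hR₂ := J.pullback_stable (eqToHom (F.w_obj x).symm) hR
    refine mem_of_forall_fiber _ _ hR₂ fun V f hf => ?_
    obtain ⟨y₁, a, a', ha, e⟩ := hf
    have ha₂ : 𝒴.p.IsHomLift f a :=
      IsHomLift.of_fac' _ f a (IsHomLift.domain_eq 𝒴.p (f ≫ eqToHom (F.w_obj x).symm) a) (F.w_obj x)
        (by rw [IsHomLift.fac' 𝒴.p (f ≫ eqToHom (F.w_obj x).symm) a]; simp)
    obtain rfl : 𝒴.p.obj y₁ = V := IsHomLift.domain_eq 𝒴.p f a
    obtain ⟨S, hS, hS'⟩ := hF.1 y₁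
    refine ⟨Sieve.bind S.arrows (fun W k hk => ?_), ?_, ?_⟩
    · let x₂ := (hS' k hk).choose
      let g := (hS' k hk).choose_spec.choose
      exact Sieve.pullback (eqToHom ((F.w_obj x₂).symm.trans
          (@IsHomLift.domain_eq _ _ _ _ 𝒴.p _ _ _ _ k g (hS' k hk).choose_spec.choose_spec)).symm)
        (homSieve h𝒳 F (g ≫ a) ⊓ homSieve h𝒳 F (g ≫ a'))
    · exact J.bind_covering hS fun W k hk => J.pullback_stable _
        (J.intersection_covering (homSieve_mem h𝒳 h𝒴 hF.2 _) (homSieve_mem h𝒳 h𝒴 hF.2 _))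
    · rintro Z _ ⟨W, l, k, hk, ⟨⟨x₃, a₁, a₁', h₁, e₁⟩, ⟨x₄, a₂, a₂', h₂, e₂⟩⟩, rfl⟩
      let x₂ := (hS' k hk).choose
      let g : F.obj x₂ ⟶ y₁ := (hS' k hk).choose_spec.choose
      have hg : 𝒴.p.IsHomLift k g := (hS' k hk).choose_spec.choose_spec
      obtain ⟨i, hi, hie⟩ := exists_iso_of_lifts (p := 𝒳.p) (l ≫ eqToHom
        ((F.w_obj x₂).symm.trans (IsHomLift.domain_eq 𝒴.p k g)).symm) a₁ a₂
      refine ⟨x₄, i.hom ≫ a₁', a₂', ?_, ?_⟩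
      · have hW : 𝒳.p.obj x₂ = W := (F.w_obj x₂).symm.trans (IsHomLift.domain_eq 𝒴.p k g)
        have ha₁ : 𝒳.p.IsHomLift l a₂ :=
          IsHomLift.of_fac' _ l a₂ (IsHomLift.domain_eq 𝒳.p (l ≫ eqToHom hW.symm) a₂) hW
            (by rw [IsHomLift.fac' 𝒳.p (l ≫ eqToHom hW.symm) a₂]; simp)
        rw [← F.isHomLift_iff]
        have : F.map (i.hom ≫ a₁') = F.map a₂ ≫ g ≫ a := by
          rw [F.map_comp, ← e₁, ← Category.assoc, ← F.map_comp, hie]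
        rw [this]
        rw [Category.assoc]
        infer_instance
      · show G.map (F.map (i.hom ≫ a₁')) ≫ b = G.map (F.map a₂')
        rw [F.map_comp, ← e₁, ← e₂, ← Category.assoc, ← F.map_comp, hie]
        simp only [G.map_comp, Category.assoc]
        exact congrArg (fun t => G.map (F.map a₂) ≫ G.map g ≫ t) e

variable {𝒴' : BasedCategory.{v₅, u₅} C}

theorem isGerbeOver_fpFst (h𝒴 : FibCat.IsFibGrpd 𝒴.p) (h𝒴' : FibCat.IsFibGrpd 𝒴'.p) (G : 𝒴' ⥤ᵇ 𝒴)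
    (hF : Gerb.IsGerbeOver J F) : Gerb.IsGerbeOver J (FibCat.fpFst G F) := by
  constructor
  · intro y'
    obtain ⟨R, hR, hR'⟩ := hF.1 (G.obj y')
    refine ⟨R.pullback (eqToHom (G.w_obj y').symm), J.pullback_stable _ hR, fun V f hf => ?_⟩
    obtain ⟨x, g, hg⟩ := hR' _ hf
    obtain ⟨y₁, χ, hχ⟩ := h𝒴'.exists_lift f
    have hg' : 𝒴.p.IsHomLift f g := IsHomLift.of_fac' _ f g (IsHomLift.domain_eq 𝒴.p (f ≫ eqToHom (G.w_obj y').symm) g)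
      (G.w_obj y') (by rw [IsHomLift.fac' 𝒴.p (f ≫ eqToHom (G.w_obj y').symm) g]; simp)
    obtain ⟨c, hc, hce⟩ := exists_iso_of_lifts (p := 𝒴.p) f g (G.map χ)
    have hV : 𝒴'.p.obj y₁ = V := IsHomLift.domain_eq 𝒴'.p f χ
    exact ⟨⟨⟨y₁, x, c⟩, isHomLift_id_congr hV.symm hc⟩, χ, hχ⟩
  · intro P P' b hb
    let β : F.obj P.obj.snd ⟶ F.obj P'.obj.snd := P.obj.iso.inv ≫ G.map b ≫ P'.obj.iso.hom
    refine ⟨(homSieve h𝒳 F β).pullback (eqToHom (snd_proj P).symm),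
      J.pullback_stable _ (homSieve_mem h𝒳 h𝒴 hF.2 β), ?_⟩
    rintro V f ⟨x₁, a, a', ha, e⟩
    obtain ⟨y₁, χ, hχ⟩ := h𝒴'.exists_lift f
    have ha' : 𝒳.p.IsHomLift f a := IsHomLift.of_fac' _ f a (IsHomLift.domain_eq 𝒳.p (f ≫ eqToHom (snd_proj P).symm) a)
      (snd_proj P) (by rw [IsHomLift.fac' 𝒳.p (f ≫ eqToHom (snd_proj P).symm) a]; simp)
    have hP : 𝒴.p.IsHomLift (𝟙 ((FibCat.fp G F).p.obj P)) P.obj.iso.hom := P.property
    have : 𝒴.p.IsHomLift f (G.map χ ≫ P.obj.iso.hom) :=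
      IsHomLift.comp_lift_id_right 𝒴.p f (G.map χ) P.obj.iso.hom
    obtain ⟨c, hc, hce⟩ := exists_iso_of_lifts (p := 𝒴.p) f (F.map a) (G.map χ ≫ P.obj.iso.hom)
    have hV : 𝒴'.p.obj y₁ = V := IsHomLift.domain_eq 𝒴'.p f χ
    let Q : (FibCat.fp G F).obj := ⟨⟨y₁, x₁, c⟩, isHomLift_id_congr hV.symm hc⟩
    let φ : Q ⟶ P := ObjectProperty.homMk { fst := χ, snd := a, w := hce.symm }
    let ψ : Q ⟶ P' := ObjectProperty.homMk
      { fst := χ ≫ b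
        snd := a'
        w := by
          show G.map (χ ≫ b) ≫ P'.obj.iso.hom = c.hom ≫ F.map a'
          rw [← e, ← Category.assoc, hce]
          simp [β] }
    have hb' : 𝒴'.p.IsHomLift (𝟙 (𝒴'.p.obj P.obj.fst)) b := hb
    refine ⟨Q, φ, ψ, fp_isHomLift f φ (h := hχ), fp_isHomLift f ψ (h := ?_), rfl⟩
    exact IsHomLift.comp_lift_id_right 𝒴'.p f χ b

end Groth.Agent.GerbLib
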