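import Groth.Agent.StkLib.Sieves
import Groth.Agent.StkLib.Basic
import Groth.Agent.GerbLib.Basic

/-!
# Gluing morphisms in prestacks
-/

set_option backward.isDefEq.respectTransparency false
set_option backward.isDefEq.respectTransparency.types false

universe v₃ u₃ v₂ u₂ v u

open CategoryTheory CategoryTheory.Functor

namespace Groth.Agent.GerbLib

open Groth.Agent.FibBase Groth.Agent.StkLib

variable {C : Type u} [Category.{v} C] {J : GrothendieckTopology C}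
  {𝒳 : BasedCategory.{v₂, u₂} C} {𝒴 : BasedCategory.{v₃, u₃} C}

theorem isHomLift_of_map {R S : C} {f : R ⟶ S} {a b : 𝒳.obj} {φ : a ⟶ b} (ha : 𝒳.p.obj a = R)
    (hb : 𝒳.p.obj b = S) (h : 𝒳.p.map φ = eqToHom ha ≫ f ≫ eqToHom hb.symm) : 𝒳.p.IsHomLift f φ :=
  IsHomLift.of_fac' _ f φ ha hb h

/-- Cartesian factorisation. -/
theorem exists_factor (h : FibCat.IsFibGrpd 𝒳.p) {z y x : 𝒳.obj} (a : y ⟶ x) (b : z ⟶ x)
    (g : 𝒳.p.obj z ⟶ 𝒳.p.obj y) (w : g ≫ 𝒳.p.map a = 𝒳.p.map b) :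
    ∃ j : z ⟶ y, 𝒳.p.map j = g ∧ j ≫ a = b := by
  have := h.isStronglyCartesian a
  refine ⟨IsStronglyCartesian.map 𝒳.p (𝒳.p.map a) a w.symm b, ?_, IsStronglyCartesian.fac 𝒳.p _ _ _ _⟩
  exact (IsHomLift.eq_of_isHomLift 𝒳.p g _).symm

theorem hom_ext_cart (h : FibCat.IsFibGrpd 𝒳.p) {z y x : 𝒳.obj} (a : y ⟶ x) {j j' : z ⟶ y}
    (hm : 𝒳.p.map j = 𝒳.p.map j') (e : j ≫ a = j' ≫ a) : j = j' := by
  have := h.isStronglyCartesian a
  have : 𝒳.p.IsHomLift (𝒳.p.map j) j' := by rw [hm]; infer_instance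
  exact IsStronglyCartesian.ext 𝒳.p (𝒳.p.map a) a (𝒳.p.map j) e

theorem hom_ext_local (h : Stk.IsPrestack J 𝒳) {x x' : 𝒳.obj} (φ φ' : x ⟶ x') (hm : 𝒳.p.map φ = 𝒳.p.map φ')
    {R : Sieve (𝒳.p.obj x)} (hR : R ∈ J (𝒳.p.obj x))
    (H : ∀ ⦃V : C⦄ (f : V ⟶ 𝒳.p.obj x), R f → ∃ (y : 𝒳.obj) (ψ : y ⟶ x), 𝒳.p.IsHomLift f ψ ∧ ψ ≫ φ = ψ ≫ φ') :
    φ = φ' := by
  obtain ⟨x₁, χ, hχ⟩ := h.1.exists_lift (𝒳.p.map φ)
  have hx₁ : 𝒳.p.obj x₁ = 𝒳.p.obj x := IsHomLift.domain_eq 𝒳.p (𝒳.p.map φ) χ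
  have hχm : eqToHom hx₁.symm ≫ 𝒳.p.map χ = 𝒳.p.map φ := by
    rw [IsHomLift.fac' 𝒳.p (𝒳.p.map φ) χ]; simp
  obtain ⟨c, hc, hce⟩ := exists_factor h.1 χ φ _ hχm
  obtain ⟨c', hc', hce'⟩ := exists_factor h.1 χ φ' _ (hχm.trans hm)
  have key : c = c' := hom_ext_of_prestackFor h.1 (h.2 R hR).2 c c'
    (isHomLift_of_map rfl hx₁ (by rw [hc]; simp)) (isHomLift_of_map rfl hx₁ (by rw [hc']; simp))
    fun V f hf => by
      obtain ⟨y, ψ, hψ, e⟩ := H f hf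
      refine ⟨y, ψ, hψ, hom_ext_cart h.1 χ (by rw [Functor.map_comp, Functor.map_comp, hc, hc']) ?_⟩
      rw [Category.assoc, hce, Category.assoc, hce', e]
  rw [← hce, ← hce', key]

/-- Morphisms glue from a compatible family. -/
theorem exists_glue (h : Stk.IsPrestack J 𝒳) {x x' : 𝒳.obj} (k : 𝒳.p.obj x ⟶ 𝒳.p.obj x')
    (R : Sieve (𝒳.p.obj x)) (hR : R ∈ J (𝒳.p.obj x))
    (γ : ∀ {y : 𝒳.obj} (a : y ⟶ x), R (𝒳.p.map a) → (y ⟶ x'))
    (hγ : ∀ {y : 𝒳.obj} (a : y ⟶ x) (ha : R (𝒳.p.map a)), 𝒳.p.map (γ a ha) = 𝒳.p.map a ≫ k)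
    (hcomp : ∀ {y' y : 𝒳.obj} (m : y' ⟶ y) (a : y ⟶ x) (ha : R (𝒳.p.map a)) (ha' : R (𝒳.p.map (m ≫ a))),
      γ (m ≫ a) ha' = m ≫ γ a ha) :
    ∃ φ : x ⟶ x', 𝒳.p.map φ = k ∧ ∀ {y : 𝒳.obj} (a : y ⟶ x) (ha : R (𝒳.p.map a)), a ≫ φ = γ a ha := by
  obtain ⟨x₁, χ, hχ⟩ := h.1.exists_lift k
  have hx₁ : 𝒳.p.obj x₁ = 𝒳.p.obj x := IsHomLift.domain_eq 𝒳.p k χ
  obtain ⟨G, e, he⟩ := exists_ofObj h.1 x rfl
  obtain ⟨G', e', he'⟩ := exists_ofObj h.1 x₁ hx₁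
  let 𝒮 := Stk.sieveCat R
  have hl : ∀ a : 𝒮.obj, 𝒳.p.IsHomLift a.obj.hom (G.map (toId a.obj) ≫ e.hom) := fun a =>
    haveI : 𝒳.p.IsHomLift a.obj.hom (G.map (toId a.obj)) := overMap_isHomLift G (toId a.obj)
    IsHomLift.comp_lift_id_right' 𝒳.p a.obj.hom (G.map (toId a.obj)) (𝒳.p.obj x) e.hom
  have hl' : ∀ a : 𝒮.obj, 𝒳.p.IsHomLift a.obj.hom (G'.map (toId a.obj) ≫ e'.hom) := fun a =>
    haveI : 𝒳.p.IsHomLift a.obj.hom (G'.map (toId a.obj)) := overMap_isHomLift G' (toId a.obj)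
    IsHomLift.comp_lift_id_right' 𝒳.p a.obj.hom (G'.map (toId a.obj)) (𝒳.p.obj x) e'.hom
  have hmem : ∀ a : 𝒮.obj, R (𝒳.p.map (G.map (toId a.obj) ≫ e.hom)) := fun a => by
    have := hl a
    rw [IsHomLift.fac' 𝒳.p a.obj.hom (G.map (toId a.obj) ≫ e.hom), eqToHom_refl, Category.comp_id]
    exact R.downward_closed a.property _
  have hw : ∀ a : 𝒮.obj, 𝒳.p.IsHomLift (a.obj.hom ≫ k) ((G'.map (toId a.obj) ≫ e'.hom) ≫ χ) := fun a =>
    haveI := hl' a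
    inferInstance
  have hu : ∀ a : 𝒮.obj, 𝒳.p.IsHomLift (a.obj.hom ≫ k) (γ _ (hmem a)) := fun a => by
    have := hl a
    refine isHomLift_of_map (IsHomLift.domain_eq 𝒳.p a.obj.hom (G.map (toId a.obj) ≫ e.hom)) rfl ?_
    rw [hγ, IsHomLift.fac' 𝒳.p a.obj.hom (G.map (toId a.obj) ≫ e.hom)]
    simp
  have hη : ∀ a : 𝒮.obj, ∃ η : G.obj a.obj ≅ G'.obj a.obj, 𝒳.p.IsHomLift (𝟙 a.obj.left) η.hom ∧
      η.hom ≫ ((G'.map (toId a.obj) ≫ e'.hom) ≫ χ) = γ _ (hmem a) := fun a =>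
    haveI := hw a
    haveI := hu a
    exists_iso_of_lifts (hp := h.1) (a.obj.hom ≫ k) _ _
  choose η hη1 hη2 using hη
  let δ : (Stk.resSieve R 𝒳).obj G ⟶ (Stk.resSieve R 𝒳).obj G' :=
    { toNatTrans :=
        { app := fun a => (η a).hom
          naturality := fun a' a g => by
            show G.map g.hom ≫ (η a).hom = (η a').hom ≫ G'.map g.hom
            have := overMap_isHomLift G g.hom
            have := overMap_isHomLift G' g.hom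
            have := hη1 a
            have := hη1 a'
            have : 𝒳.p.IsHomLift g.hom.left (G.map g.hom ≫ (η a).hom) :=
              IsHomLift.comp_lift_id_right' 𝒳.p g.hom.left (G.map g.hom) a.obj.left (η a).hom
            have : 𝒳.p.IsHomLift g.hom.left ((η a').hom ≫ G'.map g.hom) :=
              IsHomLift.comp_lift_id_left' 𝒳.p a'.obj.left (η a').hom g.hom.left (G'.map g.hom)
            have := hw a
            have := isSC (hp := h.1) (a.obj.hom ≫ k) ((G'.map (toId a.obj) ≫ e'.hom) ≫ χ)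
            refine IsStronglyCartesian.ext 𝒳.p (a.obj.hom ≫ k) ((G'.map (toId a.obj) ≫ e'.hom) ≫ χ) g.hom.left ?_
            have et : g.hom ≫ toId a.obj = toId a'.obj := Over.OverMorphism.ext (Over.w g.hom)
            have eu : G.map g.hom ≫ (G.map (toId a.obj) ≫ e.hom) = G.map (toId a'.obj) ≫ e.hom := by
              rw [← Category.assoc, ← G.toFunctor.map_comp, et]
            have ev : G'.map g.hom ≫ ((G'.map (toId a.obj) ≫ e'.hom) ≫ χ) =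
                (G'.map (toId a'.obj) ≫ e'.hom) ≫ χ := by
              rw [← Category.assoc, ← Category.assoc, ← G'.toFunctor.map_comp, et]
            refine (Category.assoc _ _ _).trans ((congrArg (G.map g.hom ≫ ·) (hη2 a)).trans
              (Eq.trans ?_ (((Category.assoc _ _ _).trans
                ((congrArg ((η a').hom ≫ ·) ev).trans (hη2 a'))).symm)))
            have h' : R (𝒳.p.map (G.map g.hom ≫ (G.map (toId a.obj) ≫ e.hom))) := by rw [eu]; exact hmem a'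
            refine (hcomp (G.map g.hom) _ (hmem a) h').symm.trans ?_
            congr 1 }
      isHomLift' := fun a => hη1 a }
  obtain ⟨Δ, hΔ⟩ := (h.2 R hR).1.map_surjective δ
  let t := Δ.toNatTrans.app (Over.mk (𝟙 (𝒳.p.obj x)))
  have ht : 𝒳.p.IsHomLift (𝟙 (𝒳.p.obj x)) t := BasedNatTrans.isHomLift Δ rfl
  have hi : 𝒳.p.IsHomLift (𝟙 (𝒳.p.obj x)) e.inv := IsHomLift.lift_id_inv 𝒳.p (𝒳.p.obj x) e
  have hl₀ : 𝒳.p.IsHomLift k (e.inv ≫ t ≫ e'.hom ≫ χ) := inferInstance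
  have hφm : 𝒳.p.map (e.inv ≫ t ≫ e'.hom ≫ χ) = k := (IsHomLift.eq_of_isHomLift 𝒳.p k _).symm
  refine ⟨e.inv ≫ t ≫ e'.hom ≫ χ, hφm, fun {y} a ha => ?_⟩
  let s : 𝒮.obj := sob (𝒳.p.map a) ha
  have := hl s
  have : 𝒳.p.IsHomLift s.obj.hom a := IsHomLift.map 𝒳.p a
  obtain ⟨i, -, hie⟩ := exists_iso_of_lifts (hp := h.1) s.obj.hom (G.map (toId s.obj) ≫ e.hom) a
  have hs : Δ.toNatTrans.app s.obj = (η s).hom := congrArg (fun m => m.toNatTrans.app s) hΔ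
  have h' : R (𝒳.p.map (i.hom ≫ G.map (toId s.obj) ≫ e.hom)) := by rw [hie]; exact ha
  calc a ≫ e.inv ≫ t ≫ e'.hom ≫ χ = i.hom ≫ (G.map (toId s.obj) ≫ t) ≫ e'.hom ≫ χ := by
        rw [← hie]; simp
    _ = i.hom ≫ γ _ (hmem s) := by
        rw [Δ.toNatTrans.naturality (toId s.obj), hs, ← hη2 s]
        simp
    _ = γ a ha := by
        rw [← hcomp i.hom _ (hmem s) h']
        congr 1

section Extend

variable (hX : FibCat.IsFibGrpd 𝒳.p) (hY : Stk.IsPrestack J 𝒴) {F G : 𝒳 ⥤ᵇ 𝒴}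

include hX hY in
/-- A transformation given on objects covering all objects extends. -/
theorem exists_extend (P : 𝒳.obj → Prop) (hP : ∀ {y' y : 𝒳.obj} (_ : y' ⟶ y), P y → P y')
    (hcov : ∀ y, ∃ R ∈ J (𝒳.p.obj y), ∀ ⦃V : C⦄ (f : V ⟶ 𝒳.p.obj y), R f →
      ∃ (y' : 𝒳.obj) (a : y' ⟶ y), 𝒳.p.IsHomLift f a ∧ P y')
    (ρ : ∀ y, P y → (F.obj y ⟶ G.obj y))
    (hρ : ∀ y hy, 𝒴.p.IsHomLift (𝟙 (𝒳.p.obj y)) (ρ y hy))
    (hnat : ∀ {y' y : 𝒳.obj} (m : y' ⟶ y) (hy : P y), F.map m ≫ ρ y hy = ρ y' (hP m hy) ≫ G.map m) :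
    ∃ ρ' : F ⟶ G, ∀ y hy, ρ'.toNatTrans.app y = ρ y hy := by
  let T : ∀ y, Sieve (𝒴.p.obj (F.obj y)) := fun y =>
    { arrows := fun V f => ∃ (y' : 𝒳.obj) (a : y' ⟶ y), 𝒳.p.IsHomLift (f ≫ eqToHom (F.w_obj y)) a ∧ P y'
      downward_closed := by
        rintro V W f ⟨y', a, ha, hy'⟩ l
        obtain ⟨y'', m, hm⟩ := exists_lift_of_eq hX (IsHomLift.domain_eq 𝒳.p (f ≫ eqToHom (F.w_obj y)) a) l
        exact ⟨y'', m ≫ a, by rw [Category.assoc]; infer_instance, hP m hy'⟩ }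
  have hT : ∀ y, T y ∈ J (𝒴.p.obj (F.obj y)) := fun y => by
    obtain ⟨R, hR, hR'⟩ := hcov y
    refine J.superset_covering (fun V f hf => ?_) (J.pullback_stable (eqToHom (F.w_obj y)) hR)
    exact hR' _ hf
  -- the value at a test morphism
  have key : ∀ (y : 𝒳.obj) {z : 𝒴.obj} (b : z ⟶ F.obj y), T y (𝒴.p.map b) →
      ∃ w : z ⟶ G.obj y, ∀ (y' : 𝒳.obj) (a : y' ⟶ y) (i : z ⟶ F.obj y') (hy' : P y'),
        i ≫ F.map a = b → w = i ≫ ρ y' hy' ≫ G.map a := by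
    rintro y z b ⟨y', a, ha, hy'⟩
    have hd : 𝒳.p.obj y' = 𝒴.p.obj z := IsHomLift.domain_eq 𝒳.p (𝒴.p.map b ≫ eqToHom (F.w_obj y)) a
    have ham : 𝒳.p.map a = eqToHom hd ≫ 𝒴.p.map b ≫ eqToHom (F.w_obj y) := by
      rw [IsHomLift.fac' 𝒳.p (𝒴.p.map b ≫ eqToHom (F.w_obj y)) a]; simp
    obtain ⟨i, hi, hie⟩ := exists_factor hY.1 (F.map a) b (eqToHom (hd.symm.trans (F.w_obj y').symm)) (by
      rw [Groth.Agent.StkLib.w_map, ham]; simp)
    refine ⟨i ≫ ρ y' hy' ≫ G.map a, fun y'' a' i' hy'' he => ?_⟩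
    obtain ⟨j, hj, hje⟩ := exists_factor hX a' a
      (eqToHom hd ≫ 𝒴.p.map i' ≫ eqToHom (F.w_obj y'')) (by
        rw [ham, ← he, Functor.map_comp, Groth.Agent.StkLib.w_map]
        simp)
    have hij : i ≫ F.map j = i' := by
      refine hom_ext_cart hY.1 (F.map a') ?_ ?_
      · rw [Functor.map_comp, hi, Groth.Agent.StkLib.w_map, hj]
        simp
      · rw [Category.assoc, ← F.toFunctor.map_comp, hje, hie, he]
    calc i ≫ ρ y' hy' ≫ G.map a = i ≫ ρ y' (hP j hy'') ≫ G.map j ≫ G.map a' := by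
          rw [← G.toFunctor.map_comp, hje]
      _ = i' ≫ ρ y'' hy'' ≫ G.map a' := by
          rw [← Category.assoc (ρ y' _), ← hnat j hy'', ← hij]; simp
  choose w hw using key
  have hwρ : ∀ (y : 𝒳.obj) {z : 𝒴.obj} (b : z ⟶ F.obj y) (hb : T y (𝒴.p.map b)),
      ∃ (y' : 𝒳.obj) (a : y' ⟶ y) (i : z ⟶ F.obj y') (hy' : P y'), i ≫ F.map a = b := by
    rintro y z b ⟨y', a, ha, hy'⟩
    have hd : 𝒳.p.obj y' = 𝒴.p.obj z := IsHomLift.domain_eq 𝒳.p (𝒴.p.map b ≫ eqToHom (F.w_obj y)) a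
    obtain ⟨i, -, hie⟩ := exists_factor hY.1 (F.map a) b (eqToHom (hd.symm.trans (F.w_obj y').symm)) (by
      rw [Groth.Agent.StkLib.w_map, IsHomLift.fac' 𝒳.p (𝒴.p.map b ≫ eqToHom (F.w_obj y)) a]; simp)
    exact ⟨y', a, i, hy', hie⟩
  have hρm : ∀ y hy, 𝒴.p.map (ρ y hy) = eqToHom ((F.w_obj y).trans (G.w_obj y).symm) := fun y hy => by
    have := hρ y hy
    rw [map_eq_of_isHomLift_id this]
  have glued : ∀ y, ∃ φ : F.obj y ⟶ G.obj y,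
      𝒴.p.map φ = eqToHom ((F.w_obj y).trans (G.w_obj y).symm) ∧
        ∀ (y' : 𝒳.obj) (a : y' ⟶ y) (hy' : P y'), F.map a ≫ φ = ρ y' hy' ≫ G.map a := fun y => by
    obtain ⟨φ, hφ, hφ'⟩ := exists_glue hY (eqToHom ((F.w_obj y).trans (G.w_obj y).symm)) (T y) (hT y)
      (fun b hb => w y b hb)
      (fun b hb => by
        obtain ⟨y', a, i, hy', he⟩ := hwρ y b hb
        rw [hw y b hb y' a i hy' he, ← he]
        simp [Groth.Agent.StkLib.w_map, hρm])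
      (fun {z' z} m b hb hb' => by
        obtain ⟨y', a, i, hy', he⟩ := hwρ y b hb
        rw [hw y b hb y' a i hy' he, hw y (m ≫ b) hb' y' a (m ≫ i) hy' (by rw [Category.assoc, he]),
          Category.assoc])
    refine ⟨φ, hφ, fun y' a hy' => ?_⟩
    have hb : T y (𝒴.p.map (F.map a)) := by
      exact ⟨y', a, IsHomLift.of_fac' _ _ a (F.w_obj y').symm rfl
        (by simp [Groth.Agent.StkLib.w_map]), hy'⟩
    rw [hφ' _ hb, hw y _ hb y' a (𝟙 _) hy' (Category.id_comp _), Category.id_comp]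
  choose φ hφm hφ using glued
  refine ⟨{ toNatTrans := { app := φ, naturality := fun y₁ y₂ m => ?_ }
            isHomLift' := fun y => ?_ }, fun y hy => ?_⟩
  · refine hom_ext_local hY _ _ ?_ (hT y₁) fun V f ⟨y', a, ha, hy'⟩ => ⟨F.obj y', F.map a, ?_, ?_⟩
    · simp only [Functor.map_comp, hφm, Groth.Agent.StkLib.w_map]
      simp
    · have := ha
      exact IsHomLift.of_fac' _ f (F.map a) ((F.w_obj y').trans
        (IsHomLift.domain_eq 𝒳.p (f ≫ eqToHom (F.w_obj y₁)) a)) rfl (by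
          rw [Groth.Agent.StkLib.w_map, IsHomLift.fac' 𝒳.p (f ≫ eqToHom (F.w_obj y₁)) a]; simp)
    · rw [← Category.assoc, ← F.toFunctor.map_comp, hφ y₂ y' (a ≫ m) hy', ← Category.assoc, hφ y₁ y' a hy',
        G.toFunctor.map_comp, Category.assoc]
  · exact isHomLift_id_of_map_eq (F.w_obj y) (G.w_obj y) (hφm y)
  · have h1 := hφ y y (𝟙 y) hy
    rw [F.toFunctor.map_id, Category.id_comp] at h1
    rw [G.toFunctor.map_id, Category.comp_id] at h1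
    exact h1

end Extend

end Groth.Agent.GerbLib
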