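import Groth.Agent.GerbLib.Basic
import Groth.Agent.StkLib.Basic

/-!
# Gerbes and equivalences; descent of gerbes
-/

set_option backward.isDefEq.respectTransparency false
set_option backward.isDefEq.respectTransparency.types false

universe v₅ u₅ v₄ u₄ v₃ u₃ v₂ u₂ v u

open CategoryTheory CategoryTheory.Functor

namespace Groth.Agent.GerbLib

open Groth.Agent.FibBase

variable {C : Type u} [Category.{v} C] {J : GrothendieckTopology C}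
  {𝒳 : BasedCategory.{v₂, u₂} C} {𝒴 : BasedCategory.{v₃, u₃} C} {𝒵 : BasedCategory.{v₄, u₄} C}

theorem map_isHomLift_iff (F : 𝒳 ⥤ᵇ 𝒴) {R S : C} (f : R ⟶ S) {a b : 𝒳.obj} (φ : a ⟶ b) :
    𝒴.p.IsHomLift f (F.map φ) ↔ 𝒳.p.IsHomLift f φ := F.isHomLift_iff f φ

theorem isGerbeOver_equiv_comp {K : 𝒳 ⥤ᵇ 𝒴} (hK : FibCat.IsEquivOver K) {F : 𝒴 ⥤ᵇ 𝒵}
    (hF : Gerb.IsGerbeOver J F) : Gerb.IsGerbeOver J (BasedFunctor.comp K F) := by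
  constructor
  · intro z
    obtain ⟨R, hR, hR'⟩ := hF.1 z
    refine ⟨R, hR, fun V f hf => ?_⟩
    obtain ⟨y, g, hg⟩ := hR' f hf
    obtain ⟨x, i, hi⟩ := exists_iso_over_of_isEquivOver hK y
      ((F.w_obj y).symm.trans (IsHomLift.domain_eq 𝒵.p f g))
    exact ⟨x, F.map i.hom ≫ g, inferInstanceAs (𝒵.p.IsHomLift f (F.map i.hom ≫ g))⟩
  · intro x x' b hb
    obtain ⟨R, hR, hR'⟩ := hF.2 (K.obj x) (K.obj x') b (isHomLift_id_congr (K.w_obj x).symm hb)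
    refine ⟨R.pullback (eqToHom (K.w_obj x).symm), J.pullback_stable _ hR, fun V f hf => ?_⟩
    obtain ⟨y, φ, ψ, hφ, hψ, e⟩ := hR' _ hf
    have lift : ∀ {x'' : 𝒳.obj} (θ : y ⟶ K.obj x''), 𝒴.p.IsHomLift (f ≫ eqToHom (K.w_obj x).symm) θ →
        𝒴.p.IsHomLift f θ := fun θ h => IsHomLift.of_fac' _ f θ
          (IsHomLift.domain_eq 𝒴.p (f ≫ eqToHom (K.w_obj x).symm) θ)
          ((IsHomLift.codomain_eq 𝒴.p (f ≫ eqToHom (K.w_obj x).symm) θ).trans (K.w_obj x))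
          (by rw [IsHomLift.fac' 𝒴.p (f ≫ eqToHom (K.w_obj x).symm) θ]; simp)
    have hφ' := lift φ hφ
    have hψ' := lift ψ hψ
    obtain ⟨x₀, i, hi⟩ := exists_iso_over_of_isEquivOver hK y (IsHomLift.domain_eq 𝒴.p f φ)
    have := full_of_isEquivOver hK
    refine ⟨x₀, K.toFunctor.preimage (i.hom ≫ φ), K.toFunctor.preimage (i.hom ≫ ψ), ?_, ?_, ?_⟩
    · rw [← map_isHomLift_iff K, Functor.map_preimage]; infer_instance
    · rw [← map_isHomLift_iff K, Functor.map_preimage]; infer_instance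
    · show F.map (K.toFunctor.map _) ≫ b = F.map (K.toFunctor.map _)
      rw [Functor.map_preimage, Functor.map_preimage, F.map_comp, F.map_comp, Category.assoc, e]

theorem isGerbeOver_toSelf_of_equiv {F : 𝒳 ⥤ᵇ 𝒴} (hF : FibCat.IsEquivOver F)
    (h : Gerb.IsGerbeOver J (FibCat.toSelf 𝒳)) : Gerb.IsGerbeOver J (FibCat.toSelf 𝒴) := by
  constructor
  · intro U
    obtain ⟨R, hR, hR'⟩ := h.1 U
    refine ⟨R, hR, fun V f hf => ?_⟩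
    obtain ⟨x, g, hg⟩ := hR' f hf
    refine ⟨F.obj x, eqToHom (F.w_obj x) ≫ g, ?_⟩
    have : (FibCat.selfOver C).p.IsHomLift f g := hg
    exact inferInstanceAs ((FibCat.selfOver C).p.IsHomLift f (eqToHom (F.w_obj x) ≫ g))
  · intro y y' b hb
    have hy' : 𝒴.p.obj y' = 𝒴.p.obj y := IsHomLift.codomain_eq (FibCat.selfOver C).p (𝟙 (𝒴.p.obj y)) b
    have hb' : b = eqToHom hy'.symm := by
      have := IsHomLift.fac' (FibCat.selfOver C).p (𝟙 (𝒴.p.obj y)) b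
      show (FibCat.selfOver C).p.map b = _
      rw [this]
      simp
    obtain ⟨x, i, hi⟩ := exists_iso_over_of_isEquivOver hF y rfl
    obtain ⟨x', i', hi'⟩ := exists_iso_over_of_isEquivOver hF y' hy'
    have hx : 𝒳.p.obj x = 𝒴.p.obj y := (F.w_obj x).symm.trans (IsHomLift.domain_eq 𝒴.p (𝟙 (𝒴.p.obj y)) i.hom)
    have hx' : 𝒳.p.obj x' = 𝒴.p.obj y := (F.w_obj x').symm.trans (IsHomLift.domain_eq 𝒴.p (𝟙 (𝒴.p.obj y)) i'.hom)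
    obtain ⟨R, hR, hR'⟩ := h.2 x x' (eqToHom (hx.trans hx'.symm)) (IsHomLift.of_fac' _ _ _ rfl (hx'.trans hx.symm)
      (by simp [BasedCategory.ofFunctor, eqToHom_map]))
    refine ⟨R.pullback (eqToHom hx.symm), J.pullback_stable _ hR, fun V f hf => ?_⟩
    obtain ⟨x₀, φ, ψ, hφ, hψ, -⟩ := hR' _ hf
    have hφ' : 𝒳.p.IsHomLift f φ := IsHomLift.of_fac' _ f φ
      (IsHomLift.domain_eq 𝒳.p (f ≫ eqToHom hx.symm) φ) hx
      (by rw [IsHomLift.fac' 𝒳.p (f ≫ eqToHom hx.symm) φ]; simp)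
    have hψ' : 𝒳.p.IsHomLift f ψ := IsHomLift.of_fac' _ f ψ
      (IsHomLift.domain_eq 𝒳.p (f ≫ eqToHom hx.symm) ψ) hx'
      (by rw [IsHomLift.fac' 𝒳.p (f ≫ eqToHom hx.symm) ψ]; simp)
    have h1 : 𝒴.p.IsHomLift f (F.map φ ≫ i.hom) := inferInstance
    have h2 : 𝒴.p.IsHomLift f (F.map ψ ≫ i'.hom) := inferInstance
    refine ⟨F.obj x₀, F.map φ ≫ i.hom, F.map ψ ≫ i'.hom, h1, h2, ?_⟩
    show 𝒴.p.map (F.map φ ≫ i.hom) ≫ b = 𝒴.p.map (F.map ψ ≫ i'.hom)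
    rw [IsHomLift.fac' 𝒴.p f (F.map φ ≫ i.hom), IsHomLift.fac' 𝒴.p f (F.map ψ ≫ i'.hom), hb']
    simp

theorem isEquivOver_symm {F : 𝒳 ⥤ᵇ 𝒴} (hF : FibCat.IsEquivOver F) : ∃ G : 𝒴 ⥤ᵇ 𝒳, FibCat.IsEquivOver G := by
  obtain ⟨G, h₁, h₂⟩ := hF
  exact ⟨G, F, h₂, h₁⟩

theorem isGerbeOver_of_iso {F F' : 𝒳 ⥤ᵇ 𝒴} (e : F ≅ F') (h : Gerb.IsGerbeOver J F) : Gerb.IsGerbeOver J F' := by
  constructor
  · intro y
    obtain ⟨R, hR, hR'⟩ := h.1 y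
    refine ⟨R, hR, fun V f hf => ?_⟩
    obtain ⟨x, g, hg⟩ := hR' f hf
    have hx : 𝒳.p.obj x = V := (F.w_obj x).symm.trans (IsHomLift.domain_eq 𝒴.p f g)
    have := isoApp_inv_lift e hx
    exact ⟨x, (isoApp e x).inv ≫ g, inferInstance⟩
  · intro x x' b hb
    have hx' : 𝒳.p.obj x' = 𝒳.p.obj x :=
      (F'.w_obj x').symm.trans (IsHomLift.codomain_eq 𝒴.p (𝟙 (𝒳.p.obj x)) b)
    have h1 := isoApp_lift e (a := x) rfl
    have h2 := isoApp_inv_lift e hx'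
    obtain ⟨R, hR, hR'⟩ := h.2 x x' ((isoApp e x).hom ≫ b ≫ (isoApp e x').inv) inferInstance
    refine ⟨R, hR, fun V f hf => ?_⟩
    obtain ⟨x₀, φ, ψ, hφ, hψ, eq⟩ := hR' f hf
    refine ⟨x₀, φ, ψ, hφ, hψ, ?_⟩
    rw [← cancel_epi (isoApp e x₀).hom, ← cancel_mono (isoApp e x').inv]
    simp only [← Category.assoc]
    rw [← natural e φ, ← natural e ψ]
    simp only [Category.assoc, Iso.hom_inv_id, Category.comp_id] at eq ⊢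
    exact eq

section Descent

variable {𝒳' : BasedCategory.{v₅, u₅} C} {𝒴' : BasedCategory.{v₄, u₄} C}

theorem isGerbeOver_of_fpFst (h𝒳 : FibCat.IsFibGrpd 𝒳.p) (h𝒴 : FibCat.IsFibGrpd 𝒴.p)
    (h𝒴' : FibCat.IsFibGrpd 𝒴'.p) (F : 𝒳 ⥤ᵇ 𝒴) (G : 𝒴' ⥤ᵇ 𝒴)
    (hG : Gerb.LocSurjObj J G) (h : Gerb.IsGerbeOver J (FibCat.fpFst G F)) : Gerb.IsGerbeOver J F := by
  have hfp : FibCat.IsFibGrpd (FibCat.fp G F).p := fp_isFibGrpd h𝒴' h𝒳 h𝒴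
  constructor
  · rw [locSurjObj_iff h𝒳]
    intro y
    obtain ⟨R, hR, hR'⟩ := hG y
    refine mem_of_forall_fiber R _ hR fun V f hf => ?_
    obtain ⟨y', g, hg⟩ := hR' f hf
    obtain rfl : 𝒴'.p.obj y' = V := (G.w_obj y').symm.trans (IsHomLift.domain_eq 𝒴.p f g)
    obtain ⟨S, hS, hS'⟩ := h.1 y'
    refine ⟨S, hS, fun W k hk => ?_⟩
    obtain ⟨P, g', hg'⟩ := hS' k hk
    have hW : 𝒴'.p.obj P.obj.fst = W := IsHomLift.domain_eq 𝒴'.p k g'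
    have hP : 𝒴.p.IsHomLift (𝟙 W) P.obj.iso.inv := by
      have : 𝒴.p.IsHomLift (𝟙 W) P.obj.iso.hom := isHomLift_id_congr hW P.property
      exact IsHomLift.lift_id_inv 𝒴.p W P.obj.iso
    have hg'' : 𝒴'.p.IsHomLift k g' := hg'
    refine ⟨P.obj.snd, P.obj.iso.inv ≫ G.map g' ≫ g, ?_⟩
    exact (inferInstance : 𝒴.p.IsHomLift (k ≫ f) (P.obj.iso.inv ≫ G.map g' ≫ g))
  · refine locSurjHom_of h𝒳 fun x x' b hb => ?_
    obtain ⟨R, hR, hR'⟩ := hG (F.obj x)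
    have hR₂ := J.pullback_stable (eqToHom (F.w_obj x).symm) hR
    refine mem_of_forall_fiber _ _ hR₂ fun V f hf => ?_
    obtain ⟨y', g, hg⟩ := hR' _ hf
    have hg₂ : 𝒴.p.IsHomLift f g := IsHomLift.of_fac' _ f g
      (IsHomLift.domain_eq 𝒴.p (f ≫ eqToHom (F.w_obj x).symm) g) (F.w_obj x)
      (by rw [IsHomLift.fac' 𝒴.p (f ≫ eqToHom (F.w_obj x).symm) g]; simp)
    obtain rfl : 𝒴'.p.obj y' = V := (G.w_obj y').symm.trans (IsHomLift.domain_eq 𝒴.p f g)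
    have hx' : 𝒳.p.obj x' = 𝒳.p.obj x := (F.w_obj x').symm.trans (IsHomLift.codomain_eq 𝒴.p (𝟙 (𝒳.p.obj x)) b)
    obtain ⟨xf, χ, hχ⟩ := h𝒳.exists_lift f
    obtain ⟨xf', χ', hχ'⟩ := exists_lift_of_eq h𝒳 hx' f
    have hgb : 𝒴.p.IsHomLift f (g ≫ b) := IsHomLift.comp_lift_id_right 𝒴.p f g b
    obtain ⟨c, hc, hce⟩ := exists_iso_of_lifts (p := 𝒴.p) f (F.map χ) g
    obtain ⟨c', hc', hce'⟩ := exists_iso_of_lifts (p := 𝒴.p) f (F.map χ') (g ≫ b)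
    let P : (FibCat.fp G F).obj := ⟨⟨y', xf, c⟩, hc⟩
    let P' : (FibCat.fp G F).obj := ⟨⟨y', xf', c'⟩, hc'⟩
    obtain ⟨S, hS, hS'⟩ := h.2 P P' (𝟙 y') (IsHomLift.id rfl)
    refine ⟨S, hS, fun W k hk => ?_⟩
    obtain ⟨P₀, φ, ψ, hφ, hψ, e⟩ := hS' k hk
    have hφψ : φ.hom.fst = ψ.hom.fst := (Category.comp_id _).symm.trans e
    have h1 : 𝒳.p.IsHomLift k φ.hom.snd := fp_isHomLift_snd' k φ (h := hφ)
    refine ⟨P₀.obj.snd, φ.hom.snd ≫ χ, ψ.hom.snd ≫ χ',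
      (inferInstance : 𝒳.p.IsHomLift (k ≫ f) (φ.hom.snd ≫ χ)), ?_⟩
    rw [← cancel_epi P₀.obj.iso.hom]
    have w1 : G.map φ.hom.fst ≫ c.hom = P₀.obj.iso.hom ≫ F.map φ.hom.snd := φ.hom.w
    have w2 : G.map ψ.hom.fst ≫ c'.hom = P₀.obj.iso.hom ≫ F.map ψ.hom.snd := ψ.hom.w
    simp only [F.map_comp, Category.assoc]
    rw [← reassoc_of% w1, reassoc_of% hce, ← reassoc_of% w2, hce', hφψ]

end Descent

end Groth.Agent.GerbLib
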