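import Groth.Agent.GerbLib.Glue
import Groth.Prelude.Def_StGerb2

/-!
# Functors between gerbes with a global object
-/

set_option backward.isDefEq.respectTransparency false
set_option backward.isDefEq.respectTransparency.types false

universe v₃ u₃ v₂ u₂ v u

open CategoryTheory CategoryTheory.Functor CategoryTheory.Limits

namespace Groth.Agent.GerbLib

open Groth.Agent.FibBase Groth.Agent.StkLib

variable {C : Type u} [Category.{v} C] {J : GrothendieckTopology C}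
  {𝒳 : BasedCategory.{v₂, u₂} C} {𝒴 : BasedCategory.{v₃, u₃} C}

/-- Objects of a gerbe map locally to any object over a terminal object. -/
theorem exists_cover_hom (h : Gerb.IsGerbe J 𝒳) (x : 𝒳.obj) (hx : IsTerminal (𝒳.p.obj x)) (y : 𝒳.obj) :
    ∃ R ∈ J (𝒳.p.obj y), ∀ ⦃V : C⦄ (f : V ⟶ 𝒳.p.obj y), R f →
      ∃ (y' : 𝒳.obj) (a : y' ⟶ y), 𝒳.p.IsHomLift f a ∧ Nonempty (y' ⟶ x) := by
  obtain ⟨x₁, χ, hχ⟩ := h.1.1.exists_lift (hx.from (𝒳.p.obj y))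
  have e : 𝒳.p.obj x₁ = 𝒳.p.obj y := IsHomLift.domain_eq 𝒳.p (hx.from (𝒳.p.obj y)) χ
  obtain ⟨R, hR, hR'⟩ := h.2.2 y x₁ (eqToHom e.symm) (IsHomLift.of_fac' _ _ _ rfl e
    (by simp [BasedCategory.ofFunctor, eqToHom_map]))
  refine ⟨R, hR, fun V f hf => ?_⟩
  obtain ⟨y', φ, ψ, hφ, hψ, -⟩ := hR' f hf
  exact ⟨y', φ, hφ, ⟨ψ ≫ χ⟩⟩

/-- An automorphism over the identity from an endomorphism over the identity. -/
noncomputable def autOMk (h : FibCat.IsFibGrpd 𝒳.p) {y : 𝒳.obj} (α : y ⟶ y)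
    (hα : 𝒳.p.map α = 𝟙 (𝒳.p.obj y)) : Gerb.AutO y :=
  haveI := isHomLift_id_self (p := 𝒳.p) hα
  haveI : IsIso α := isIso_of_lift (hp := h) (𝟙 (𝒳.p.obj y)) α
  fiberIsoMk (asIso α) (isHomLift_id_self hα)

theorem autO_map (y : 𝒳.obj) (α : Gerb.AutO y) : 𝒳.p.map α.hom.1 = 𝟙 (𝒳.p.obj y) :=
  (map_eq_of_isHomLift_id α.hom.2).trans (eqToHom_refl _ _)

theorem isIso_of_map (h : FibCat.IsFibGrpd 𝒳.p) {a b : 𝒳.obj} (φ : a ⟶ b) [IsIso (𝒳.p.map φ)] : IsIso φ :=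
  isIso_of_lift (hp := h) (𝒳.p.map φ) φ

theorem eq_one_of_map_eq_id {y : 𝒳.obj} {α : Gerb.AutO y} (h : α.hom.1 = 𝟙 y) : α = 1 :=
  Aut.ext (Functor.Fiber.hom_ext h)

section Twist

variable (F : 𝒳 ⥤ᵇ 𝒳) (x : 𝒳.obj) (g : F.obj x ⟶ x)

/-- A self-functor fixing an object compatibly with its automorphisms is vertically the identity. -/
theorem exists_iso_id (h : Stk.IsPrestack J 𝒳) (hx : IsTerminal (𝒳.p.obj x))
    (hcov : ∀ y, ∃ R ∈ J (𝒳.p.obj y), ∀ ⦃V : C⦄ (f : V ⟶ 𝒳.p.obj y), R f →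
      ∃ (y' : 𝒳.obj) (a : y' ⟶ y), 𝒳.p.IsHomLift f a ∧ Nonempty (y' ⟶ x))
    (hg : 𝒳.p.IsHomLift (𝟙 (𝒳.p.obj x)) g)
    (hconj : ∀ (x' : 𝒳.obj) (c : x' ⟶ x) (g' : F.obj x' ⟶ x'), 𝒳.p.IsHomLift (𝟙 (𝒳.p.obj x')) g' →
      F.map c ≫ g = g' ≫ c → ∀ α : Gerb.AutO x', F.map α.hom.1 ≫ g' = g' ≫ α.hom.1) :
    ∃ ρ : ∀ y : 𝒳.obj, F.obj y ⟶ y,
      (∀ y, IsIso (ρ y) ∧ 𝒳.p.IsHomLift (𝟙 (𝒳.p.obj y)) (ρ y)) ∧
      (∀ (y y' : 𝒳.obj) (f : y ⟶ y'), F.map f ≫ ρ y' = ρ y ≫ f) := by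
  have hgm : 𝒳.p.map g = eqToHom (F.w_obj x) := by
    rw [map_eq_of_isHomLift_id hg]
  have exρ : ∀ (y : 𝒳.obj) (c : y ⟶ x),
      ∃ j : F.obj y ⟶ y, 𝒳.p.map j = eqToHom (F.w_obj y) ∧ j ≫ c = F.map c ≫ g := fun y c =>
    exists_factor h.1 c (F.map c ≫ g) _ (by rw [Functor.map_comp, Groth.Agent.StkLib.w_map, hgm]; simp)
  choose r hr hrc using exρ
  have hind : ∀ (y : 𝒳.obj) (c c' : y ⟶ x), r y c = r y c' := fun y c c' => by
    obtain ⟨a, ha, hac⟩ := exists_factor h.1 c c' (𝟙 _) (by rw [Category.id_comp]; exact hx.hom_ext _ _)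
    have hα := hconj y c (r y c) (isHomLift_id_of_map_eq (F.w_obj y) rfl (hr y c)) (hrc y c).symm
      (autOMk h.1 a ha)
    have e : F.map a ≫ r y c = r y c ≫ a := hα
    refine hom_ext_cart h.1 c' ?_ ?_
    · rw [hr, hr]
    · rw [hrc y c', ← hac, F.map_comp, Category.assoc, ← hrc y c, ← Category.assoc, ← Category.assoc, e]
  obtain ⟨τ, -⟩ := exists_extend (F := F) (G := BasedFunctor.id 𝒳) h.1 h (fun y => Nonempty (y ⟶ x))
    (fun m hy => hy.map (m ≫ ·)) hcov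
    (fun y hy => r y hy.some) (fun y hy => isHomLift_id_of_map_eq (F.w_obj y) rfl (hr y hy.some))
    (fun {y' y} m hy => by
      rw [hind y' _ (m ≫ hy.some)]
      show F.map m ≫ r y hy.some = r y' (m ≫ hy.some) ≫ m
      refine hom_ext_cart h.1 hy.some ?_ ?_
      · rw [Functor.map_comp, Functor.map_comp, hr, hr, Groth.Agent.StkLib.w_map]
        simp
      · rw [Category.assoc, hrc, Category.assoc, hrc, ← Category.assoc, ← F.toFunctor.map_comp])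
  refine ⟨fun y => τ.toNatTrans.app y, fun y => ⟨?_, τ.isHomLift' y⟩, fun y y' f => τ.toNatTrans.naturality f⟩
  have := τ.isHomLift' y
  exact isIso_of_lift (hp := h.1) (𝟙 (𝒳.p.obj y)) (τ.toNatTrans.app y)

end Twist

/-- Conjugation data pass along a functor surjective on automorphisms. -/
theorem conj_transfer (hX : FibCat.IsFibGrpd 𝒳.p) (hY : FibCat.IsFibGrpd 𝒴.p) (φ : 𝒳 ⥤ᵇ 𝒴) (ψ : 𝒴 ⥤ᵇ 𝒳)
    (x : 𝒳.obj) (hφ : ∀ (x' : 𝒳.obj) (_ : x' ⟶ x), Function.Surjective (Gerb.autMap φ x'))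
    (g : ψ.obj (φ.obj x) ⟶ x) (hg : 𝒳.p.IsHomLift (𝟙 (𝒳.p.obj x)) g)
    (hconj : ∀ (x' : 𝒳.obj) (c : x' ⟶ x) (g' : ψ.obj (φ.obj x') ⟶ x'), 𝒳.p.IsHomLift (𝟙 (𝒳.p.obj x')) g' →
      ψ.map (φ.map c) ≫ g = g' ≫ c → ∀ α : Gerb.AutO x', ψ.map (φ.map α.hom.1) ≫ g' = g' ≫ α.hom.1)
    (z : 𝒴.obj) (c : z ⟶ φ.obj x) (g' : φ.obj (ψ.obj z) ⟶ z) (hg' : 𝒴.p.IsHomLift (𝟙 (𝒴.p.obj z)) g')
    (w : φ.map (ψ.map c) ≫ φ.map g = g' ≫ c) (β : Gerb.AutO z) :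
    φ.map (ψ.map β.hom.1) ≫ g' = g' ≫ β.hom.1 := by
  have hgm : 𝒳.p.map g = eqToHom ((ψ.w_obj (φ.obj x)).trans (φ.w_obj x)) := by
    rw [map_eq_of_isHomLift_id hg]
  obtain ⟨x', c', hc'⟩ := hX.exists_lift (x := x) (𝒴.p.map c ≫ eqToHom (φ.w_obj x))
  have hd : 𝒳.p.obj x' = 𝒴.p.obj z := IsHomLift.domain_eq 𝒳.p (𝒴.p.map c ≫ eqToHom (φ.w_obj x)) c'
  have hcm : 𝒳.p.map c' = eqToHom hd ≫ 𝒴.p.map c ≫ eqToHom (φ.w_obj x) := by
    rw [IsHomLift.fac' 𝒳.p (𝒴.p.map c ≫ eqToHom (φ.w_obj x)) c']; simp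
  obtain ⟨i, hi, hic⟩ := exists_factor hY (φ.map c') c (eqToHom (hd.symm.trans (φ.w_obj x').symm)) (by
    rw [Groth.Agent.StkLib.w_map, hcm]; simp)
  have : IsIso (𝒴.p.map i) := by rw [hi]; infer_instance
  have := isIso_of_map hY i
  obtain ⟨h, hh, hhc⟩ := exists_factor hX c' (ψ.map (φ.map c') ≫ g)
    (eqToHom ((ψ.w_obj (φ.obj x')).trans (φ.w_obj x'))) (by
      rw [Functor.map_comp, hgm, Groth.Agent.StkLib.w_map, Groth.Agent.StkLib.w_map]; simp)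
  obtain ⟨α, hα⟩ := hφ x' c' (autOMk hY (inv i ≫ β.hom.1 ≫ i) (by
    rw [Functor.map_comp, Functor.map_comp, autO_map, Category.id_comp, ← Functor.map_comp,
      IsIso.inv_hom_id, CategoryTheory.Functor.map_id]))
  have hα' : φ.map α.hom.1 = inv i ≫ β.hom.1 ≫ i := congrArg (fun t : Gerb.AutO (φ.obj x') => t.hom.1) hα
  have e1 : ψ.map (φ.map α.hom.1) ≫ h = h ≫ α.hom.1 :=
    hconj x' c' h (isHomLift_id_of_map_eq ((ψ.w_obj _).trans (φ.w_obj x')) rfl hh) hhc.symm α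
  have hg'm : 𝒴.p.map g' = eqToHom ((φ.w_obj _).trans (ψ.w_obj z)) := by
    rw [map_eq_of_isHomLift_id hg']
  have e2 : φ.map (ψ.map i) ≫ φ.map h = g' ≫ i := by
    refine hom_ext_cart hY (φ.map c') ?_ ?_
    · simp [Groth.Agent.StkLib.w_map, hh, hg'm, hi]
    · rw [Category.assoc, ← φ.toFunctor.map_comp, hhc, φ.toFunctor.map_comp, ← Category.assoc,
        ← φ.toFunctor.map_comp, ← ψ.toFunctor.map_comp, hic, w, Category.assoc, hic]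
  rw [← cancel_mono i, Category.assoc, Category.assoc, ← e2]
  have e3 : β.hom.1 ≫ i = i ≫ φ.map α.hom.1 := by rw [hα']; simp
  calc φ.map (ψ.map β.hom.1) ≫ φ.map (ψ.map i) ≫ φ.map h
      = φ.map (ψ.map (β.hom.1 ≫ i) ≫ h) := by simp
    _ = φ.map ((ψ.map i ≫ h) ≫ α.hom.1) := by rw [e3]; simp [e1]
    _ = g' ≫ β.hom.1 ≫ i := by
      rw [φ.toFunctor.map_comp, φ.toFunctor.map_comp, e2, Category.assoc, e3]

section Equiv

theorem map_autO_injective (hX : Stk.IsPrestack J 𝒳) (φ : 𝒳 ⥤ᵇ 𝒴) (s : 𝒳.obj)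
    (hcov : ∀ y, ∃ R ∈ J (𝒳.p.obj y), ∀ ⦃V : C⦄ (f : V ⟶ 𝒳.p.obj y), R f →
      ∃ (y' : 𝒳.obj) (a : y' ⟶ y), 𝒳.p.IsHomLift f a ∧ Nonempty (y' ⟶ s))
    (hY : FibCat.IsFibGrpd 𝒴.p)
    (hφ : ∀ (x : 𝒳.obj) (_ : x ⟶ s), Function.Injective (Gerb.autMap φ x))
    {x : 𝒳.obj} (a : x ⟶ x) (ha : 𝒳.p.map a = 𝟙 _) (hφa : φ.map a = 𝟙 _) : a = 𝟙 x := by
  obtain ⟨R, hR, hR'⟩ := hcov x
  refine hom_ext_local hX a (𝟙 x) (by rw [ha, CategoryTheory.Functor.map_id]) hR fun V f hf => ?_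
  obtain ⟨y, b, hb, ⟨c⟩⟩ := hR' f hf
  refine ⟨y, b, hb, ?_⟩
  obtain ⟨a', ha', hae⟩ := exists_factor hX.1 b (b ≫ a) (𝟙 _) (by simp [ha])
  have : φ.map a' = 𝟙 _ := by
    refine hom_ext_cart hY (φ.map b) ?_ ?_
    · simp [Groth.Agent.StkLib.w_map, ha']
    · rw [← φ.toFunctor.map_comp, hae, φ.toFunctor.map_comp, hφa, Category.comp_id, Category.id_comp]
  have h1 : autOMk hX.1 a' ha' = (1 : Gerb.AutO y) := by
    refine hφ y c ?_
    rw [map_one]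
    exact eq_one_of_map_eq_id this
  have h2 : a' = 𝟙 y := congrArg (fun t : Gerb.AutO y => t.hom.1) h1
  rw [Category.comp_id, ← hae, h2, Category.id_comp]

variable (hX : Gerb.IsGerbe J 𝒳) (hY : Gerb.IsGerbe J 𝒴) (φ : 𝒳 ⥤ᵇ 𝒴) (s : 𝒳.obj)
  (hs : IsTerminal (𝒳.p.obj s)) (hφ : ∀ (x : 𝒳.obj) (_ : x ⟶ s), Function.Bijective (Gerb.autMap φ x))

include hX hY hs hφ

theorem faithful_of_autMap : φ.toFunctor.Faithful where
  map_injective {x x'} f f' e := by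
    have hm : 𝒳.p.map f' = 𝒳.p.map f := by
      have := congrArg 𝒴.p.map e
      rw [Groth.Agent.StkLib.w_map, Groth.Agent.StkLib.w_map] at this
      rw [cancel_epi, cancel_mono] at this
      exact this.symm
    obtain ⟨a, ha, hae⟩ := exists_factor hX.1.1 f f' (𝟙 _) (by rw [Category.id_comp, hm])
    have hφa : φ.map a = 𝟙 _ := by
      refine hom_ext_cart hY.1.1 (φ.map f) ?_ ?_
      · simp [Groth.Agent.StkLib.w_map, ha]
      · rw [← φ.toFunctor.map_comp, hae, Category.id_comp]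
        exact e.symm
    rw [← hae, map_autO_injective (Groth.Agent.StkLib.isPrestack_of_isStack hX.1) φ s
      (exists_cover_hom hX s hs) hY.1.1 (fun y c => (hφ y c).1) a ha hφa, Category.id_comp]

theorem full_of_autMap : φ.toFunctor.Full where
  map_surjective {x x'} β := by
    have hfaith := faithful_of_autMap hX hY φ s hs hφ
    let k : 𝒳.p.obj x ⟶ 𝒳.p.obj x' := eqToHom (φ.w_obj x).symm ≫ 𝒴.p.map β ≫ eqToHom (φ.w_obj x')
    let T : Sieve (𝒳.p.obj x) :=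
      { arrows := fun V f => ∃ (y : 𝒳.obj) (a : y ⟶ x) (d : y ⟶ x'),
          𝒳.p.IsHomLift f a ∧ φ.map d = φ.map a ≫ β
        downward_closed := by
          rintro V W f ⟨y, a, d, ha, e⟩ l
          obtain ⟨y', m, hm⟩ := exists_lift_of_eq hX.1.1 (IsHomLift.domain_eq 𝒳.p f a) l
          exact ⟨y', m ≫ a, m ≫ d, inferInstance, by rw [φ.map_comp, e, φ.map_comp, Category.assoc]⟩ }
    obtain ⟨R, hR, hR'⟩ := exists_cover_hom hX s hs x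
    obtain ⟨R', hR₂, hR₂'⟩ := exists_cover_hom hX s hs x'
    have hT : T ∈ J (𝒳.p.obj x) := J.superset_covering (fun V f hf => by
      obtain ⟨y, a, ha, ⟨c⟩⟩ := hR' f hf.1
      obtain ⟨y', a', ha', ⟨c'⟩⟩ := hR₂' (f ≫ k) hf.2
      have hy : 𝒳.p.obj y = V := IsHomLift.domain_eq 𝒳.p f a
      have hy' : 𝒳.p.obj y' = V := IsHomLift.domain_eq 𝒳.p (f ≫ k) a'
      have hjm : eqToHom (hy.trans hy'.symm) ≫ 𝒳.p.map c' = 𝒳.p.map c := hs.hom_ext _ _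
      obtain ⟨j, hj, hjc⟩ := exists_factor hX.1.1 c' c _ hjm
      obtain ⟨β', hβ', hβe⟩ := exists_factor hY.1.1 (φ.map j ≫ φ.map a') (φ.map a ≫ β) (𝟙 _) (by
        rw [Category.id_comp, Functor.map_comp, Functor.map_comp, Groth.Agent.StkLib.w_map, Groth.Agent.StkLib.w_map,
          Groth.Agent.StkLib.w_map, hj, IsHomLift.fac' 𝒳.p f a, IsHomLift.fac' 𝒳.p (f ≫ k) a']
        simp [k])
      obtain ⟨α, hα⟩ := (hφ y c).2 (autOMk hY.1.1 β' hβ')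
      have hα' : φ.map α.hom.1 = β' := congrArg (fun t : Gerb.AutO (φ.obj y) => t.hom.1) hα
      exact ⟨y, a, α.hom.1 ≫ j ≫ a', ha, by rw [φ.map_comp, φ.map_comp, hα', hβe]⟩)
      (J.intersection_covering hR (J.pullback_stable k hR₂))
    have key : ∀ {y : 𝒳.obj} (a : y ⟶ x), T (𝒳.p.map a) → ∃ d : y ⟶ x', φ.map d = φ.map a ≫ β := by
      rintro y a ⟨y₁, a₁, d₁, ha₁, e⟩
      have := IsHomLift.map 𝒳.p a
      obtain ⟨i, -, hi⟩ := exists_iso_of_lifts (hp := hX.1.1) (𝒳.p.map a) a₁ a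
      exact ⟨i.hom ≫ d₁, by rw [φ.map_comp, e, ← Category.assoc, ← φ.map_comp, hi]⟩
    choose d hd using @key
    obtain ⟨f, hfm, hf⟩ := exists_glue (Groth.Agent.StkLib.isPrestack_of_isStack hX.1) k T hT
      (fun a ha => d a ha)
      (fun {y} a ha => by
        have := congrArg 𝒴.p.map (hd a ha)
        rw [Functor.map_comp, Groth.Agent.StkLib.w_map, Groth.Agent.StkLib.w_map] at this
        simp only [Category.assoc] at this
        rw [cancel_epi] at this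
        rw [← cancel_mono (eqToHom (φ.w_obj x').symm), this]
        simp [k])
      (fun {y' y} m a ha ha' => hfaith.map_injective (by
        rw [hd (m ≫ a) ha', φ.map_comp, φ.map_comp, hd a ha, Category.assoc]))
    refine ⟨f, hom_ext_local (Groth.Agent.StkLib.isPrestack_of_isStack hY.1) _ _ ?_
      (J.pullback_stable (eqToHom (φ.w_obj x)) hT) fun V l hl => ?_⟩
    · rw [Groth.Agent.StkLib.w_map, hfm]; simp [k]
    · obtain ⟨y, a, d', ha, hd'⟩ := hl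
      have hmem : T (𝒳.p.map a) := by
        rw [IsHomLift.fac' 𝒳.p (l ≫ eqToHom (φ.w_obj x)) a, eqToHom_refl, Category.comp_id]
        exact T.downward_closed ⟨y, a, d', ha, hd'⟩ _
      refine ⟨φ.obj y, φ.map a, IsHomLift.of_fac' _ l _ ((φ.w_obj y).trans
        (IsHomLift.domain_eq 𝒳.p (l ≫ eqToHom (φ.w_obj x)) a)) rfl (by
          rw [Groth.Agent.StkLib.w_map, IsHomLift.fac' 𝒳.p (l ≫ eqToHom (φ.w_obj x)) a]; simp), ?_⟩
      rw [← φ.map_comp, hf a hmem, hd a hmem]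

theorem isEquivOver_of_autMap : FibCat.IsEquivOver φ := by
  have := faithful_of_autMap hX hY φ s hs hφ
  have := full_of_autMap hX hY φ s hs hφ
  refine isEquivOver_of_exists_iso φ ‹_› ‹_› fun η => ?_
  obtain ⟨R, hR, hR'⟩ := exists_cover_hom hY (φ.obj s) (hs.ofIso (eqToIso (φ.w_obj s).symm)) η
  obtain ⟨G, e, he⟩ := exists_ofObj hY.1.1 η rfl
  obtain ⟨H, ⟨eH⟩⟩ := exists_lift_post φ (BasedFunctor.comp (Stk.sieveIncl R) G) (fun a => by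
    obtain ⟨η', b, hb, ⟨c⟩⟩ := hR' a.obj.hom a.property
    have hd : 𝒴.p.obj η' = a.obj.left := IsHomLift.domain_eq 𝒴.p a.obj.hom b
    obtain ⟨x, χ, hχ⟩ := exists_lift_of_eq hX.1.1 rfl (hs.from a.obj.left)
    have hdx : 𝒳.p.obj x = a.obj.left := IsHomLift.domain_eq 𝒳.p (hs.from a.obj.left) χ
    have hjm : eqToHom ((φ.w_obj x).trans (hdx.trans hd.symm)) ≫ 𝒴.p.map c = 𝒴.p.map (φ.map χ) :=
      (hs.ofIso (eqToIso (φ.w_obj s).symm)).hom_ext _ _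
    obtain ⟨i, hi, -⟩ := exists_factor hY.1.1 c (φ.map χ) _ hjm
    obtain ⟨j, hj⟩ := exists_iso_at hY.1.1 G a.obj e.hom he b hb
    have hil : 𝒴.p.IsHomLift (𝟙 a.obj.left) i := isHomLift_id_of_map_eq ((φ.w_obj x).trans hdx) hd hi
    have := isIso_of_lift (hp := hY.1.1) (𝟙 a.obj.left) i
    exact ⟨x, asIso i ≪≫ j, inferInstanceAs (𝒴.p.IsHomLift (𝟙 a.obj.left) (i ≫ j.hom))⟩)
  have : (Stk.resSieve R 𝒳).IsEquivalence := hX.1.2 R hR
  let X' := (Stk.resSieve R 𝒳).objPreimage H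
  let eX : BasedFunctor.comp (Stk.sieveIncl R) X' ≅ H := (Stk.resSieve R 𝒳).objObjPreimageIso H
  obtain ⟨t⟩ := exists_iso_of_resSieve ((Groth.Agent.StkLib.isPrestack_of_isStack hY.1).2 R hR)
    (BasedFunctor.comp X' φ) G (whiskerRightIso eX φ ≪≫ eH)
  have := isoApp_lift t (a := Over.mk (𝟙 (𝒴.p.obj η))) rfl
  refine ⟨X'.obj (Over.mk (𝟙 (𝒴.p.obj η))), isoApp t (Over.mk (𝟙 (𝒴.p.obj η))) ≪≫ e, ?_⟩
  exact @IsHomLift.comp_of_lift_id _ _ _ _ 𝒴.p (𝒴.p.obj η) _ _ _ (isoApp t (Over.mk (𝟙 (𝒴.p.obj η)))).hom e.hom this he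

end Equiv

end Groth.Agent.GerbLib
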