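import Groth.Agent.GerbLib.Twist
import Mathlib.CategoryTheory.Sites.Sheaf
import Mathlib.CategoryTheory.Sites.Whiskering
import Mathlib.Algebra.Category.Grp.Limits

/-!
# The sheaf of groups banding an abelian gerbe
-/

set_option backward.isDefEq.respectTransparency false
set_option backward.isDefEq.respectTransparency.types false

universe v u

open CategoryTheory CategoryTheory.Functor Opposite

namespace Groth.Agent.GerbLib

open Groth.Agent.FibBase Groth.Agent.StkLib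

variable {C : Type u} [Category.{v} C] {J : GrothendieckTopology C} {𝒮 : BasedCategory.{v, max u v} C}

variable (𝒮) in
/-- Compatible systems of automorphisms of the objects over `U`. -/
def bandGrp (U : C) : Subgroup (∀ x : 𝒮.obj, (𝒮.p.obj x ⟶ U) → Gerb.AutO x) where
  carrier := {γ | ∀ {x' x : 𝒮.obj} (m : x' ⟶ x) (f : 𝒮.p.obj x ⟶ U),
    (γ x' (𝒮.p.map m ≫ f)).hom.1 ≫ m = m ≫ (γ x f).hom.1}
  one_mem' m f := by
    show 𝟙 _ ≫ m = m ≫ 𝟙 _
    simp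
  mul_mem' {a b} ha hb x' x m f := by
    show ((b x' _).hom.1 ≫ (a x' _).hom.1) ≫ m = m ≫ (b x f).hom.1 ≫ (a x f).hom.1
    rw [Category.assoc, ha m f, ← Category.assoc, hb m f, Category.assoc]
  inv_mem' {a} ha x' x m f := by
    show (a x' _).inv.1 ≫ m = m ≫ (a x f).inv.1
    have e1 : (a x' (𝒮.p.map m ≫ f)).inv.1 ≫ (a x' (𝒮.p.map m ≫ f)).hom.1 = 𝟙 _ :=
      congrArg Subtype.val (a x' (𝒮.p.map m ≫ f)).inv_hom_id
    have e2 : (a x f).hom.1 ≫ (a x f).inv.1 = 𝟙 _ := congrArg Subtype.val (a x f).hom_inv_id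
    calc (a x' _).inv.1 ≫ m = (a x' _).inv.1 ≫ (m ≫ (a x f).hom.1) ≫ (a x f).inv.1 := by
          rw [Category.assoc, e2, Category.comp_id]
      _ = _ := by rw [← ha m f, ← Category.assoc, ← Category.assoc, e1, Category.id_comp]

variable (𝒮) in
/-- Restriction of compatible systems. -/
def bandRes {U U' : C} (g : U' ⟶ U) : bandGrp 𝒮 U →* bandGrp 𝒮 U' where
  toFun γ := ⟨fun x f => γ.1 x (f ≫ g), fun {x' x} m f => by
    show (γ.1 x' ((𝒮.p.map m ≫ f) ≫ g)).hom.1 ≫ m = m ≫ (γ.1 x (f ≫ g)).hom.1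
    rw [Category.assoc]; exact γ.2 m (f ≫ g)⟩
  map_one' := rfl
  map_mul' _ _ := rfl

variable (𝒮) in
/-- The presheaf of compatible systems. -/
def bandPsh : Cᵒᵖ ⥤ GrpCat.{max u v} where
  obj U := GrpCat.of (bandGrp 𝒮 U.unop)
  map g := GrpCat.ofHom (bandRes 𝒮 g.unop)
  map_id U := by
    refine GrpCat.hom_ext (MonoidHom.ext fun γ => Subtype.ext (funext fun x => funext fun f => ?_))
    show γ.1 x (f ≫ 𝟙 _) = γ.1 x f
    rw [Category.comp_id]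
  map_comp g h := by
    refine GrpCat.hom_ext (MonoidHom.ext fun γ => Subtype.ext (funext fun x => funext fun f => ?_))
    show γ.1 x (f ≫ h.unop ≫ g.unop) = γ.1 x ((f ≫ h.unop) ≫ g.unop)
    rw [Category.assoc]

theorem band_ext {U : C} {γ γ' : bandGrp 𝒮 U} (h : ∀ x f, (γ.1 x f).hom.1 = (γ'.1 x f).hom.1) : γ = γ' :=
  Subtype.ext (funext fun x => funext fun f => Aut.ext (Functor.Fiber.hom_ext (h x f)))

theorem band_hom_congr {U : C} (γ : bandGrp 𝒮 U) {x : 𝒮.obj} {f f' : 𝒮.p.obj x ⟶ U} (e : f = f') :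
    (γ.1 x f).hom.1 = (γ.1 x f').hom.1 := by rw [e]

/-- The sieve where the source of a lift satisfies a property stable under pullback. -/
def liftSieve (h : FibCat.IsFibGrpd 𝒮.p) (y : 𝒮.obj) (P : ∀ y' : 𝒮.obj, (y' ⟶ y) → Prop)
    (hP : ∀ {y'' y' : 𝒮.obj} (m : y'' ⟶ y') (a : y' ⟶ y), P y' a → P y'' (m ≫ a)) : Sieve (𝒮.p.obj y) where
  arrows V f := ∃ (y' : 𝒮.obj) (a : y' ⟶ y), 𝒮.p.IsHomLift f a ∧ P y' a
  downward_closed := by
    rintro V W f ⟨y', a, ha, hy⟩ k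
    obtain ⟨y'', m, hm⟩ := exists_lift_of_eq h (IsHomLift.domain_eq 𝒮.p f a) k
    exact ⟨y'', m ≫ a, inferInstance, hP m a hy⟩

/-- Pullback of an automorphism along a morphism. -/
theorem exists_res (h : FibCat.IsFibGrpd 𝒮.p) {y x : 𝒮.obj} (m : y ⟶ x) (α : Gerb.AutO x) :
    ∃ b : y ⟶ y, 𝒮.p.map b = 𝟙 _ ∧ b ≫ m = m ≫ α.hom.1 :=
  exists_factor h m (m ≫ α.hom.1) (𝟙 _) (by simp [autO_map])

section

variable (h : Gerb.IsGerbe J 𝒮) (hcomm : ∀ (x : 𝒮.obj) (α β : Gerb.AutO x), α * β = β * α)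

include h hcomm

theorem res_unique {y x : 𝒮.obj} {m m' : y ⟶ x} (e : 𝒮.p.map m = 𝒮.p.map m') (α : Gerb.AutO x)
    {b b' : y ⟶ y} (hb : 𝒮.p.map b = 𝟙 _) (hb' : 𝒮.p.map b' = 𝟙 _) (hbm : b ≫ m = m ≫ α.hom.1)
    (hbm' : b' ≫ m' = m' ≫ α.hom.1) : b = b' := by
  obtain ⟨j, hj, hjm⟩ := exists_factor h.1.1 m m' (𝟙 _) (by rw [Category.id_comp, e])
  have hc : j ≫ b = b ≫ j :=
    congrArg (fun t : Gerb.AutO y => t.hom.1) (hcomm y (autOMk h.1.1 b hb) (autOMk h.1.1 j hj))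
  refine hom_ext_cart h.1.1 m' (by rw [hb, hb']) ?_
  rw [hbm', ← hjm, ← Category.assoc, ← hc, Category.assoc, hbm, Category.assoc]

theorem bijective_band_eval (x : 𝒮.obj) :
    Function.Bijective (fun γ : bandGrp 𝒮 (𝒮.p.obj x) => γ.1 x (𝟙 _)) := by
  have hps := Groth.Agent.StkLib.isPrestack_of_isStack h.1
  let T : ∀ (y : 𝒮.obj) (_ : 𝒮.p.obj y ⟶ 𝒮.p.obj x), Sieve (𝒮.p.obj y) := fun y f =>
    liftSieve h.1.1 y (fun y' a => ∃ m : y' ⟶ x, 𝒮.p.map m = 𝒮.p.map a ≫ f) fun n a ⟨m, hm⟩ =>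
      ⟨n ≫ m, by rw [Functor.map_comp, Functor.map_comp, hm, Category.assoc]⟩
  have hT : ∀ y f, T y f ∈ J (𝒮.p.obj y) := fun y f => by
    obtain ⟨x₁, χ, hχ⟩ := h.1.1.exists_lift f
    have e : 𝒮.p.obj x₁ = 𝒮.p.obj y := IsHomLift.domain_eq 𝒮.p f χ
    obtain ⟨R, hR, hR'⟩ := h.2.2 y x₁ (eqToHom e.symm) (IsHomLift.of_fac' _ _ _ rfl e
      (by simp [BasedCategory.ofFunctor, eqToHom_map]))
    refine J.superset_covering (fun V l hl => ?_) hR
    obtain ⟨y', a, ψ, ha, hψ, -⟩ := hR' l hl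
    refine ⟨y', a, ha, ψ ≫ χ, ?_⟩
    rw [Functor.map_comp, IsHomLift.fac' 𝒮.p l a, IsHomLift.fac' 𝒮.p l ψ, IsHomLift.fac' 𝒮.p f χ]
    simp
  have key : ∀ (y : 𝒮.obj) (f : 𝒮.p.obj y ⟶ 𝒮.p.obj x) {y' : 𝒮.obj} (a : y' ⟶ y),
      T y f (𝒮.p.map a) → ∃ m : y' ⟶ x, 𝒮.p.map m = 𝒮.p.map a ≫ f := by
    rintro y f y' a ⟨y₁, a₁, ha₁, m₁, hm₁⟩
    have := IsHomLift.map 𝒮.p a
    obtain ⟨i, -, hi⟩ := exists_iso_of_lifts (hp := h.1.1) (𝒮.p.map a) a₁ a
    exact ⟨i.hom ≫ m₁, by rw [Functor.map_comp, hm₁, ← Category.assoc, ← Functor.map_comp, hi]⟩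
  constructor
  · intro γ γ' e
    refine band_ext fun y f => ?_
    refine hom_ext_local hps _ _ (by rw [autO_map, autO_map]) (hT y f) fun V l hl => ?_
    obtain ⟨y', a, ha, m, hm⟩ := hl
    refine ⟨y', a, ha, ?_⟩
    rw [← γ.2 a f, ← γ'.2 a f]
    congr 1
    have h1 : (γ.1 y' (𝒮.p.map a ≫ f)).hom.1 ≫ m = m ≫ (γ.1 x (𝟙 _)).hom.1 := by
      rw [← γ.2 m (𝟙 _)]
      congr 1
      exact band_hom_congr γ (by rw [Category.comp_id, hm])
    have h2 : (γ'.1 y' (𝒮.p.map a ≫ f)).hom.1 ≫ m = m ≫ (γ.1 x (𝟙 _)).hom.1 := by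
      rw [show γ.1 x (𝟙 _) = γ'.1 x (𝟙 _) from e, ← γ'.2 m (𝟙 _)]
      congr 1
      exact band_hom_congr γ' (by rw [Category.comp_id, hm])
    exact res_unique h hcomm rfl _ (autO_map _ _) (autO_map _ _) h1 h2
  · intro α
    choose m hm using key
    choose b hb hbm using fun (y : 𝒮.obj) (m : y ⟶ x) => exists_res h.1.1 m α
    have glue : ∀ y f, ∃ φ : y ⟶ y, 𝒮.p.map φ = 𝟙 _ ∧
        ∀ {y' : 𝒮.obj} (a : y' ⟶ y) (ha : T y f (𝒮.p.map a)), a ≫ φ = b y' (m y f a ha) ≫ a := fun y f =>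
      exists_glue hps (𝟙 _) (T y f) (hT y f) (fun {y'} a ha => b y' (m y f a ha) ≫ a)
        (fun {y'} a ha => by rw [Functor.map_comp, hb]; simp)
        (fun {y'' y'} n a ha ha' => by
          rw [← Category.assoc, ← Category.assoc]
          congr 1
          refine hom_ext_cart h.1.1 (m y f a ha) (by simp [hb]) ?_
          obtain ⟨b', hb', hb''⟩ := exists_res h.1.1 (n ≫ m y f a ha) α
          have e : b y'' (m y f (n ≫ a) ha') = b' :=
            res_unique h hcomm (by rw [Functor.map_comp, hm, hm, Functor.map_comp, Category.assoc]) α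
              (hb _ _) hb' (hbm _ _) hb''
          rw [e, Category.assoc, hb'', Category.assoc, Category.assoc, hbm])
    choose φ hφm hφ using glue
    refine ⟨⟨fun y f => autOMk h.1.1 (φ y f) (hφm y f), fun {y' y} k f => ?_⟩, ?_⟩
    · show φ y' (𝒮.p.map k ≫ f) ≫ k = k ≫ φ y f
      refine hom_ext_local hps _ _ (by simp [hφm]) (hT y' (𝒮.p.map k ≫ f)) fun V l hl => ?_
      obtain ⟨y'', a, ha, n, hn⟩ := hl
      have hmem : T y' (𝒮.p.map k ≫ f) (𝒮.p.map a) :=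
        ⟨y'', a, IsHomLift.map 𝒮.p a, n, hn⟩
      have hmem' : T y f (𝒮.p.map (a ≫ k)) :=
        ⟨y'', a ≫ k, IsHomLift.map 𝒮.p (a ≫ k), n, by rw [hn, Functor.map_comp, Category.assoc]⟩
      refine ⟨y'', a, ha, ?_⟩
      rw [← Category.assoc a (φ y' _), hφ y' _ a hmem, ← Category.assoc a k, hφ y f (a ≫ k) hmem', Category.assoc]
      congr 1
      exact res_unique h hcomm (by rw [hm, hm, Functor.map_comp, Category.assoc]) α (hb _ _) (hb _ _)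
        (hbm _ _) (hbm _ _)
    · refine Aut.ext (Functor.Fiber.hom_ext ?_)
      show φ x (𝟙 _) = α.hom.1
      have hmem : T x (𝟙 _) (𝒮.p.map (𝟙 x)) :=
        ⟨x, 𝟙 x, IsHomLift.map 𝒮.p (𝟙 x), 𝟙 x, by simp⟩
      have := hφ x (𝟙 _) (𝟙 x) hmem
      rw [Category.id_comp, Category.comp_id] at this
      rw [this]
      exact res_unique h hcomm (by rw [hm]; simp) α (hb _ _) (autO_map _ _) (hbm _ _)
        (show α.hom.1 ≫ 𝟙 x = 𝟙 x ≫ α.hom.1 by simp)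

/-- The banding. -/
noncomputable def banding : Gerb.Banding 𝒮 (bandPsh 𝒮) where
  iso x := MulEquiv.ofBijective
    ({ toFun := fun γ => γ.1 x (𝟙 _), map_one' := rfl, map_mul' := fun _ _ => rfl } :
      bandGrp 𝒮 (𝒮.p.obj x) →* Gerb.AutO x) (bijective_band_eval h hcomm x)
  natural {x' x} φ a := by
    show ((a : bandGrp 𝒮 (𝒮.p.obj x)).1 x' (𝟙 _ ≫ 𝒮.p.map φ)).hom.1 ≫ φ =
      φ ≫ ((a : bandGrp 𝒮 (𝒮.p.obj x)).1 x (𝟙 _)).hom.1
    rw [← (a : bandGrp 𝒮 (𝒮.p.obj x)).2 φ (𝟙 _), Category.id_comp, Category.comp_id]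

theorem bandPsh_comm (U : C) (a b : (bandPsh 𝒮).obj (op U)) : a * b = b * a :=
  Subtype.ext (funext fun x => funext fun f => hcomm x _ _)

theorem isSheaf_bandPsh : Presheaf.IsSheaf J (bandPsh 𝒮) := by
  have hps := Groth.Agent.StkLib.isPrestack_of_isStack h.1
  refine (Presheaf.isSheaf_iff_isSheaf_forget (J := J) (P' := bandPsh 𝒮) (CategoryTheory.forget GrpCat.{max v u})).2 ?_
  rw [isSheaf_iff_isSheaf_of_type]
  intro U R hR s hs
  let val : ∀ {V : C} (g : V ⟶ U), R g → bandGrp 𝒮 V := fun g hg => s g hg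
  have hval : ∀ {W V : C} (k : W ⟶ V) (g : V ⟶ U) (hg : R g) (hkg : R (k ≫ g)) (x : 𝒮.obj) (l : 𝒮.p.obj x ⟶ W),
      (val (k ≫ g) hkg).1 x l = (val g hg).1 x (l ≫ k) := fun k g hg hkg x l => by
    have e : s (k ≫ g) hkg = ((bandPsh 𝒮) ⋙ CategoryTheory.forget GrpCat).map k.op (s g hg) :=
      (hs (g₁ := 𝟙 _) (g₂ := k) hkg hg (Category.id_comp _)).symm.symm |> fun e => by simpa using e
    exact congrFun (congrFun (congrArg Subtype.val e) x) l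
  let T : ∀ (y : 𝒮.obj) (_ : 𝒮.p.obj y ⟶ U), Sieve (𝒮.p.obj y) := fun y f => R.pullback f
  have glue : ∀ y f, ∃ φ : y ⟶ y, 𝒮.p.map φ = 𝟙 _ ∧
      ∀ {y' : 𝒮.obj} (a : y' ⟶ y) (ha : T y f (𝒮.p.map a)),
        a ≫ φ = ((val (𝒮.p.map a ≫ f) ha).1 y' (𝟙 _)).hom.1 ≫ a := fun y f =>
    exists_glue hps (𝟙 _) (T y f) (J.pullback_stable f hR)
      (fun {y'} a ha => ((val (𝒮.p.map a ≫ f) ha).1 y' (𝟙 _)).hom.1 ≫ a)
      (fun {y'} a ha => by rw [Functor.map_comp, autO_map]; simp)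
      (fun {y'' y'} n a ha ha' => by
        rw [← Category.assoc, ← Category.assoc]
        congr 1
        have e : 𝒮.p.map (n ≫ a) ≫ f = 𝒮.p.map n ≫ 𝒮.p.map a ≫ f := by rw [Functor.map_comp, Category.assoc]
        have h1 : ∀ (g : 𝒮.p.obj y'' ⟶ U) (hg : R g), g = 𝒮.p.map n ≫ 𝒮.p.map a ≫ f →
            (val g hg).1 y'' (𝟙 _) = (val (𝒮.p.map a ≫ f) ha).1 y'' (𝟙 _ ≫ 𝒮.p.map n) := by
          rintro _ hg rfl
          exact hval (𝒮.p.map n) _ ha hg y'' (𝟙 _)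
        rw [h1 _ ha' e, ← (val (𝒮.p.map a ≫ f) ha).2 n (𝟙 _), Category.id_comp, Category.comp_id])
  choose φ hφm hφ using glue
  let γ : bandGrp 𝒮 U := ⟨fun y f => autOMk h.1.1 (φ y f) (hφm y f), fun {y' y} k f => by
    show φ y' (𝒮.p.map k ≫ f) ≫ k = k ≫ φ y f
    refine hom_ext_local hps _ _ (by simp [hφm]) (J.pullback_stable (𝒮.p.map k ≫ f) hR) fun V l hl => ?_
    obtain ⟨y'', a, ha⟩ := h.1.1.exists_lift l
    have hd : 𝒮.p.obj y'' = V := IsHomLift.domain_eq 𝒮.p l a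
    have hmem : T y' (𝒮.p.map k ≫ f) (𝒮.p.map a) := by
      show R (𝒮.p.map a ≫ 𝒮.p.map k ≫ f)
      rw [IsHomLift.fac' 𝒮.p l a, eqToHom_refl, Category.comp_id, Category.assoc]
      exact R.downward_closed hl _
    have hmem' : T y f (𝒮.p.map (a ≫ k)) := by
      show R (𝒮.p.map (a ≫ k) ≫ f)
      rw [Functor.map_comp, Category.assoc]; exact hmem
    refine ⟨y'', a, ha, ?_⟩
    rw [← Category.assoc a (φ y' _), hφ y' _ a hmem, ← Category.assoc a k, hφ y f (a ≫ k) hmem', Category.assoc]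
    congr 1
    have h1 : ∀ (g g' : 𝒮.p.obj y'' ⟶ U) (hg : R g) (hg' : R g'), g = g' →
        (val g hg).1 y'' (𝟙 _) = (val g' hg').1 y'' (𝟙 _) := by rintro g _ hg hg' rfl; rfl
    rw [h1 _ _ hmem hmem' (by rw [Functor.map_comp, Category.assoc])]⟩
  refine ⟨γ, fun V g hg => ?_, fun γ' hγ' => ?_⟩
  · refine band_ext fun x l => ?_
    show φ x (l ≫ g) = ((val g hg).1 x l).hom.1
    have hmem : T x (l ≫ g) (𝒮.p.map (𝟙 x)) := by
      show R (𝒮.p.map (𝟙 x) ≫ l ≫ g)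
      rw [CategoryTheory.Functor.map_id, Category.id_comp]; exact R.downward_closed hg l
    have := hφ x (l ≫ g) (𝟙 x) hmem
    rw [Category.id_comp, Category.comp_id] at this
    rw [this]
    have h1 : ∀ (g₀ : 𝒮.p.obj x ⟶ U) (hg₀ : R g₀), g₀ = l ≫ g →
        (val g₀ hg₀).1 x (𝟙 _) = (val g hg).1 x (𝟙 _ ≫ l) := by
      rintro _ hg₀ rfl
      exact hval l g hg hg₀ x (𝟙 _)
    rw [h1 _ hmem (by simp), Category.id_comp]
  · refine band_ext (γ := (γ' : bandGrp 𝒮 U)) fun x f => ?_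
    show ((γ' : bandGrp 𝒮 U).1 x f).hom.1 = φ x f
    refine hom_ext_local hps _ _ (by rw [autO_map, hφm]) (J.pullback_stable f hR) fun V l hl => ?_
    obtain ⟨y, a, ha⟩ := h.1.1.exists_lift l
    have hmem : T x f (𝒮.p.map a) := by
      show R (𝒮.p.map a ≫ f)
      rw [IsHomLift.fac' 𝒮.p l a, eqToHom_refl, Category.comp_id, Category.assoc]
      exact R.downward_closed hl _
    refine ⟨y, a, ha, ?_⟩
    rw [← (γ' : bandGrp 𝒮 U).2 a f, hφ x f a hmem]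
    congr 1
    have e := hγ' (𝒮.p.map a ≫ f) hmem
    have e' := congrFun (congrFun (congrArg Subtype.val e) y) (𝟙 _)
    change (γ' : bandGrp 𝒮 U).1 y (𝟙 _ ≫ 𝒮.p.map a ≫ f) = (val (𝒮.p.map a ≫ f) hmem).1 y (𝟙 _) at e'
    rw [← e', Category.id_comp]

end

end Groth.Agent.GerbLib
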