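import Groth.Agent.GerbLib.Basic
import Groth.Agent.AlgStLib.OfPsh
import Groth.Prelude.Def_StGerb2
import Mathlib.CategoryTheory.Sites.LocallyInjective
import Mathlib.CategoryTheory.Sites.LocallySurjective

/-!
# The base of a gerbe and isomorphism classes of objects
-/

set_option backward.isDefEq.respectTransparency false
set_option backward.isDefEq.respectTransparency.types false

universe v₂ w v u

open CategoryTheory CategoryTheory.Functor Opposite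

namespace Groth.Agent.GerbLib

open Groth.Agent.FibBase Groth.Agent.AlgStLib

variable {C : Type u} [Category.{v} C] {J : GrothendieckTopology C}
  {𝒳 : BasedCategory.{v₂, w} C} [FibCat.IsFibGrpd 𝒳.p] {P : Cᵒᵖ ⥤ Type w}

/-- The section of an object of a fibre. -/
def fibVal (π : 𝒳 ⥤ᵇ Stk.ofPsh P) {U : C} (a : 𝒳.p.Fiber U) : P.obj (op U) :=
  P.map (eqToHom a.2.symm).op (secAt π a.1)

omit [FibCat.IsFibGrpd 𝒳.p] in
theorem fibVal_of_map (π : 𝒳 ⥤ᵇ Stk.ofPsh P) {U V : C} (f : V ⟶ U) (b : 𝒳.p.Fiber V) (a : 𝒳.p.Fiber U)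
    (φ : b.1 ⟶ a.1) (hφ : 𝒳.p.IsHomLift f φ) : P.map f.op (fibVal π a) = fibVal π b := by
  rw [fibVal, fibVal, ← secAt_map π φ]
  refine (res_res P _ _ _).trans ((res_congr P ?_ _).trans (res_res P _ _ _).symm)
  rw [IsHomLift.fac' 𝒳.p f φ]
  simp

variable (π : 𝒳 ⥤ᵇ Stk.ofPsh P)

/-- The map from isomorphism classes to the base. -/
noncomputable def clsMap : Gerb.isoClPsh 𝒳 ⟶ P where
  app U := ↾Quot.lift (fun a => fibVal π a) (fun a b ⟨φ⟩ => by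
    have h := fibVal_of_map π (𝟙 U.unop) a b φ.1 φ.2
    simpa using h.symm)
  naturality U V f := by
    ext a
    obtain ⟨a⟩ := a
    refine (fibVal_of_map π f.unop (Gerb.pullFib 𝒳 f.unop a) a (Gerb.pullHom 𝒳 a.1 _) ?_).symm
    refine IsHomLift.of_fac' _ _ _ (Gerb.pull_over 𝒳 a.1 _) a.2 ?_
    rw [Gerb.pullHom_map]

theorem clsMap_fib (x : 𝒳.obj) :
    (clsMap π).app (op (𝒳.p.obj x)) (Quot.mk _ (Gerb.fib x)) =
      P.map (eqToHom (π.w_obj x).symm).op (π.obj x).sec :=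
  res_id P _ (eqToHom_refl _ rfl) _

theorem locallySurjective_clsMap (h : Gerb.LocSurjObj J π) : Presheaf.IsLocallySurjective J (clsMap π) := by
  refine ⟨fun {U} s => ?_⟩
  obtain ⟨R, hR, hR'⟩ := h (⟨U, s⟩ : Stk.EltObj P)
  refine J.superset_covering (fun V f hf => ?_) hR
  obtain ⟨x, g, hg⟩ := hR' f hf
  have hb : (π.obj x).base = V := IsHomLift.domain_eq (Stk.ofPsh P).p f g
  have hx : 𝒳.p.obj x = V := (π.w_obj x).symm.trans hb
  refine ⟨Quot.mk _ ⟨x, hx⟩, ?_⟩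
  show P.map (eqToHom hx.symm).op (P.map (eqToHom (π.w_obj x).symm).op (π.obj x).sec) = P.map f.op s
  rw [← g.map_sec]
  refine (congrArg _ (res_res P _ _ _)).trans ((res_res P _ _ _).trans (res_congr P ?_ s))
  have hgm : g.hom = eqToHom hb ≫ f := by
    have := IsHomLift.fac' (Stk.ofPsh P).p f g
    simpa using this
  rw [hgm]
  simp

theorem locallyInjective_clsMap (h : Gerb.LocSurjHom J π) : Presheaf.IsLocallyInjective J (clsMap π) := by
  refine ⟨fun {U} a b e => ?_⟩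
  obtain ⟨⟨x, hx⟩, rfl⟩ := Quot.exists_rep a
  obtain ⟨⟨y, hy⟩, rfl⟩ := Quot.exists_rep b
  obtain ⟨U⟩ := U
  dsimp at hx
  subst hx
  have e' : P.map (eqToHom (rfl : 𝒳.p.obj x = 𝒳.p.obj x).symm).op (secAt π x) =
      P.map (eqToHom hy.symm).op (secAt π y) := e
  have hbase : (π.obj x).base = (π.obj y).base := ((π.w_obj x).trans hy.symm).trans (π.w_obj y).symm
  let m : π.obj x ⟶ π.obj y := ⟨eqToHom hbase, by
    have := congrArg (P.map (eqToHom (π.w_obj x)).op) e'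
    unfold secAt at this
    rw [res_res, res_res, res_res, res_res] at this
    refine Eq.trans ?_ (this.symm.trans (res_id P _ (by simp) _))
    exact res_congr P (by simp) _⟩
  have hm : (Stk.ofPsh P).p.IsHomLift (𝟙 (𝒳.p.obj x)) m :=
    isHomLift_id_of_map_eq (π.w_obj x) ((π.w_obj y).trans hy) rfl
  obtain ⟨R, hR, hR'⟩ := h x y m hm
  refine J.superset_covering (fun V f hf => ?_) hR
  obtain ⟨x₀, φ, ψ, hφ, hψ, -⟩ := hR' f hf
  have hd : 𝒳.p.obj x₀ = V := IsHomLift.domain_eq 𝒳.p f φ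
  show Quot.mk _ (Gerb.pullFib 𝒳 f ⟨x, rfl⟩) = Quot.mk _ (Gerb.pullFib 𝒳 f ⟨y, hy⟩)
  obtain ⟨χ, hχ, -⟩ := Gerb.exists_hom_pull 𝒳 x (f ≫ eqToHom (rfl : 𝒳.p.obj x = 𝒳.p.obj x).symm) φ
    (by simpa using hφ)
  have hψ' : 𝒳.p.IsHomLift (f ≫ eqToHom hy.symm) ψ := IsHomLift.of_fac' _ _ ψ hd rfl (by
    rw [IsHomLift.fac' 𝒳.p f ψ]; simp)
  obtain ⟨χ', hχ', -⟩ := Gerb.exists_hom_pull 𝒳 y (f ≫ eqToHom hy.symm) ψ hψ'
  exact ((Quot.sound ⟨⟨χ, hχ⟩⟩ : Quot.mk (Gerb.IsoRel 𝒳 V) ⟨x₀, hd⟩ = _).symm).trans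
    (Quot.sound ⟨⟨χ', hχ'⟩⟩ : Quot.mk (Gerb.IsoRel 𝒳 V) ⟨x₀, hd⟩ = _)

end Groth.Agent.GerbLib
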