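import Groth.Prelude.Def_AlgSt3
import Groth.Prelude.Def_StGerb
import Groth.Agent.StkLib.Basic
import Groth.Agent.AlgStLib.Substack
import Groth.Agent.GerbLib.Basic
import Groth.Agent.GerbLib.Glue

/-!
# The substack of objects locally in the image of a functor
-/

set_option backward.isDefEq.respectTransparency false
set_option backward.isDefEq.respectTransparency.types false

universe u

open CategoryTheory CategoryTheory.Functor CategoryTheory.Limits AlgebraicGeometry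

namespace Groth.Agent.GerbLib.LocImage

open Groth.Agent.FibBase Groth.Agent.AlgStLib

variable {S : Scheme.{u}} {𝒜 𝒳 : AlgSt.Cat S} (J : GrothendieckTopology (Over S)) (x : 𝒜 ⥤ᵇ 𝒳)

/-- The objects which locally come from `x`. -/
def Prop' (y : 𝒳.obj) : Prop :=
  ∃ R ∈ J (𝒳.p.obj y), ∀ ⦃V : Over S⦄ (f : V ⟶ 𝒳.p.obj y), R f →
    ∃ (a : 𝒜.obj) (g : x.obj a ⟶ y), 𝒳.p.IsHomLift f g

variable {J x} (hX : FibCat.IsFibGrpd 𝒳.p)

include hX in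
theorem prop_of_hom ⦃y' y : 𝒳.obj⦄ (φ : y' ⟶ y) (h : Prop' J x y) : Prop' J x y' := by
  obtain ⟨R, hR, H⟩ := h
  refine ⟨R.pullback (𝒳.p.map φ), J.pullback_stable _ hR, fun V f hf => ?_⟩
  obtain ⟨a, g, hg⟩ := H _ hf
  have ha : 𝒳.p.obj (x.obj a) = V := IsHomLift.domain_eq 𝒳.p (f ≫ 𝒳.p.map φ) g
  obtain ⟨c, hc, -⟩ := exists_factor hX φ g (eqToHom ha ≫ f) (by
    rw [IsHomLift.fac' 𝒳.p (f ≫ 𝒳.p.map φ) g, Category.assoc]; simp)
  exact ⟨a, c, IsHomLift.of_fac' _ f c ha rfl (by rw [hc]; simp)⟩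

theorem dom_eq {U V : Over S} {f : V ⟶ U} {a b : 𝒳.obj} {φ : a ⟶ b} (h : 𝒳.p.IsHomLift f φ) : 𝒳.p.obj a = V :=
  IsHomLift.domain_eq 𝒳.p f φ

theorem prop_of_cover {y : 𝒳.obj} (R : Sieve (𝒳.p.obj y)) (hR : R ∈ J (𝒳.p.obj y))
    (H : ∀ ⦃V : Over S⦄ (f : V ⟶ 𝒳.p.obj y), R f → ∃ (y' : 𝒳.obj) (m : y' ⟶ y), 𝒳.p.IsHomLift f m ∧ Prop' J x y') :
    Prop' J x y := by
  choose y' m hm hy' using H
  choose R' hR' H' using hy'
  refine ⟨Sieve.bind R.arrows fun V f hf => (R' f hf).pullback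
    (eqToHom (dom_eq (hm f hf)).symm),
    J.bind_covering hR fun V f hf => J.pullback_stable _ (hR' f hf), fun W k hk => ?_⟩
  obtain ⟨V, g, f, hf, hg, rfl⟩ := hk
  have := hm f hf
  obtain ⟨a, c, hc⟩ := H' f hf _ hg
  have ha : 𝒳.p.obj (x.obj a) = W := IsHomLift.domain_eq 𝒳.p (g ≫ eqToHom (dom_eq (hm f hf)).symm) c
  refine ⟨a, c ≫ m f hf, IsHomLift.of_fac' _ _ _ ha rfl ?_⟩
  rw [Functor.map_comp, IsHomLift.fac' 𝒳.p (g ≫ eqToHom (dom_eq (hm f hf)).symm) c,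
    IsHomLift.fac' 𝒳.p f (m f hf)]
  simp

theorem prop_obj (a : 𝒜.obj) (hA : FibCat.IsFibGrpd 𝒜.p) : Prop' J x (x.obj a) := by
  refine ⟨⊤, J.top_mem _, fun V f _ => ?_⟩
  obtain ⟨a', φ, hφ⟩ := hA.exists_lift (x := a) (f ≫ eqToHom (x.w_obj a))
  refine ⟨a', x.map φ, ?_⟩
  have := x.preserves_isHomLift (f ≫ eqToHom (x.w_obj a)) φ
  exact IsHomLift.of_fac' _ f _ (IsHomLift.domain_eq 𝒳.p (f ≫ eqToHom (x.w_obj a)) (x.map φ)) rfl (by
    rw [IsHomLift.fac' 𝒳.p (f ≫ eqToHom (x.w_obj a)) (x.map φ)]; simp)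

theorem isStack_fullSub (h : Stk.IsStack J 𝒳) : Stk.IsStack J (AlgSt.fullSub 𝒳 (Prop' J x)) := by
  have hX := h.1
  let i : AlgSt.fullSub 𝒳 (Prop' J x) ⥤ᵇ 𝒳 := AlgSt.subIncl 𝒳 (Prop' J x)
  have : i.toFunctor.Full := inferInstanceAs (ObjectProperty.ι _).Full
  have : i.toFunctor.Faithful := inferInstanceAs (ObjectProperty.ι _).Faithful
  refine ⟨isFibGrpd_fullSub hX (prop_of_hom hX), fun U R hR => ?_⟩
  have hp : Stk.IsPrestackFor R (AlgSt.fullSub 𝒳 (Prop' J x)) :=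
    Groth.Agent.StkLib.isPrestackFor_of_fullyFaithful i ((Groth.Agent.StkLib.isPrestack_of_isStack h).2 R hR)
  obtain ⟨_, _⟩ := hp
  refine { essSurj := ⟨fun G => ?_⟩ }
  have : (Stk.resSieve R 𝒳).IsEquivalence := h.2 R hR
  obtain ⟨y, ⟨e⟩⟩ : ∃ y, Nonempty ((Stk.resSieve R 𝒳).obj y ≅ BasedFunctor.comp G i) :=
    ⟨_, ⟨(Stk.resSieve R 𝒳).objObjPreimageIso (BasedFunctor.comp G i)⟩⟩
  have hy : ∀ t, Prop' J x (y.obj t) := fun t => by
    let q : 𝒳.p.obj (y.obj t) = t.left := y.w_obj t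
    refine prop_of_cover (R.pullback (eqToHom q ≫ t.hom)) (J.pullback_stable _ hR) fun V f hf => ?_
    let o : (Stk.sieveCat R).obj := ⟨Over.mk (f ≫ eqToHom q ≫ t.hom), hf⟩
    let φ : o.obj ⟶ t := Over.homMk (f ≫ eqToHom q) (by simp [o])
    refine ⟨(G.obj o).obj, (isoApp e o).inv ≫ y.map φ, ?_, (G.obj o).property⟩
    have : 𝒳.p.IsHomLift (𝟙 ((Stk.sieveCat R).p.obj o)) (isoApp e o).inv := e.inv.isHomLift' o
    have h1 := IsHomLift.fac' 𝒳.p (𝟙 ((Stk.sieveCat R).p.obj o)) (isoApp e o).inv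
    refine IsHomLift.of_fac' _ f _ (G.w_obj o) rfl ?_
    rw [Functor.map_comp, h1, Groth.Agent.StkLib.w_map y φ]
    simp [φ, o]
    change eqToHom _ ≫ (f ≫ eqToHom q) ≫ eqToHom _ = _
    simp
  let yG : FibCat.overCat U ⥤ᵇ AlgSt.fullSub 𝒳 (Prop' J x) :=
    { toFunctor := ObjectProperty.lift _ y.toFunctor hy
      w := y.w }
  have := Groth.Agent.StkLib.post_full (𝒜 := Stk.sieveCat R) i
  have := Groth.Agent.StkLib.post_faithful (𝒜 := Stk.sieveCat R) i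
  exact ⟨yG, ⟨(Groth.Agent.StkLib.post (𝒜 := Stk.sieveCat R) i).preimageIso e⟩⟩

end Groth.Agent.GerbLib.LocImage
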