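import Groth.Agent.GerbLib.Equiv
import Groth.Agent.StkLib.Topology

/-!
# A gerbe over a stack as a gerbe over the inherited site
-/

set_option backward.isDefEq.respectTransparency false
set_option backward.isDefEq.respectTransparency.types false

universe v₃ u₃ v₂ u₂ v u

open CategoryTheory CategoryTheory.Functor

namespace Groth.Agent.GerbLib

open Groth.Agent.FibBase Groth.Agent.StkLib

variable {C : Type u} [Category.{v} C] {J : GrothendieckTopology C}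
  {𝒳 : BasedCategory.{v₂, u₂} C} {𝒴 : BasedCategory.{v₃, u₃} C}

theorem isGerbeOver_toSelf_restricted (h𝒳 : FibCat.IsFibGrpd 𝒳.p) (h𝒴 : FibCat.IsFibGrpd 𝒴.p) (F : 𝒳 ⥤ᵇ 𝒴)
    (hF' : FibCat.IsFibGrpd F.toFunctor) (hF : Gerb.IsGerbeOver J F) :
    Gerb.IsGerbeOver (𝒴.p.restrictedTopology J)
      (FibCat.toSelf (BasedCategory.ofFunctor F.toFunctor)) := by
  constructor
  · intro y
    let T : Sieve (show 𝒴.obj from y) :=
      { arrows := fun v _ => ∃ x : 𝒳.obj, F.obj x = v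
        downward_closed := by
          rintro v w _ ⟨x, rfl⟩ k
          obtain ⟨x', φ, hφ⟩ := hF'.exists_lift k
          exact ⟨x', IsHomLift.domain_eq F.toFunctor k φ⟩ }
    refine ⟨T, (mem_restrictedTopology_iff h𝒴 J T).2 (J.superset_covering ?_ ((locSurjObj_iff h𝒳).1 hF.1 y)), ?_⟩
    · rintro V f ⟨x, g, hg⟩
      exact (mem_pushforward_iff h𝒴 T f).2 ⟨F.obj x, g, hg, x, rfl⟩
    · rintro v f ⟨x, rfl⟩
      exact ⟨x, f, IsHomLift.map (𝟭 𝒴.obj) f⟩
  · intro x x' b hb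
    replace hb : (FibCat.selfOver 𝒴.obj).p.IsHomLift (𝟙 (F.obj x)) b := hb
    have hx : F.obj x' = F.obj x :=
      IsHomLift.codomain_eq (FibCat.selfOver 𝒴.obj).p (𝟙 (F.obj x)) b
    have hb' : b = eqToHom hx.symm := by
      have := IsHomLift.fac' (FibCat.selfOver 𝒴.obj).p (𝟙 (F.obj x)) b
      show (FibCat.selfOver 𝒴.obj).p.map b = _
      rw [this]
      simp
    let T : Sieve (F.obj x) :=
      { arrows := fun v f => ∃ (x₀ : 𝒳.obj) (φ : x₀ ⟶ x) (ψ : x₀ ⟶ x'),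
          F.toFunctor.IsHomLift f φ ∧ F.toFunctor.IsHomLift f ψ ∧ F.map φ ≫ eqToHom hx.symm = F.map ψ
        downward_closed := by
          rintro v w f ⟨x₀, φ, ψ, hφ, hψ, e⟩ k
          obtain ⟨x₁, χ, hχ⟩ := exists_lift_of_eq hF' (IsHomLift.domain_eq F.toFunctor f φ) k
          exact ⟨x₁, χ ≫ φ, χ ≫ ψ, inferInstance, inferInstance,
            by rw [F.map_comp, F.map_comp, Category.assoc, e]⟩ }
    have hR := J.pullback_stable (eqToHom (F.w_obj x)) (homSieve_mem h𝒳 h𝒴 hF.2 (eqToHom hx.symm : F.obj x ⟶ F.obj x'))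
    refine ⟨T, (mem_restrictedTopology_iff h𝒴 J T).2 (J.superset_covering ?_ hR), ?_⟩
    · rintro V f ⟨x₁, a, a', ha, e⟩
      have ha₁ : 𝒴.p.IsHomLift (f ≫ eqToHom (F.w_obj x)) (F.map a) := inferInstance
      have ha₂ : 𝒴.p.IsHomLift f (F.map a) := IsHomLift.of_fac' _ f (F.map a)
        (IsHomLift.domain_eq 𝒴.p (f ≫ eqToHom (F.w_obj x)) (F.map a)) rfl
        (by rw [IsHomLift.fac' 𝒴.p (f ≫ eqToHom (F.w_obj x)) (F.map a)]; simp)
      refine (mem_pushforward_iff h𝒴 T f).2 ⟨F.obj x₁, F.map a, ha₂, x₁, a, a',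
        IsHomLift.map F.toFunctor a, ?_, e⟩
      refine IsHomLift.of_fac' _ (F.map a) a' rfl hx ?_
      rw [← e]
      simp
    · rintro v f ⟨x₀, φ, ψ, hφ, hψ, e⟩
      refine ⟨x₀, φ, ψ, hφ, hψ, ?_⟩
      rw [hb']
      exact e

end Groth.Agent.GerbLib
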