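import Groth.Agent.GerbLib.Twist
import Groth.Agent.GerbLib.Equiv

/-!
# Fully faithful, locally essentially surjective functors of stacks
-/

set_option backward.isDefEq.respectTransparency false
set_option backward.isDefEq.respectTransparency.types false

universe v₃ u₃ v₂ u₂ v u

open CategoryTheory CategoryTheory.Functor CategoryTheory.Limits

namespace Groth.Agent.GerbLib

open Groth.Agent.FibBase Groth.Agent.StkLib

variable {C : Type u} [Category.{v} C] {J : GrothendieckTopology C}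
  {𝒳 : BasedCategory.{v₂, u₂} C} {𝒴 : BasedCategory.{v₃, u₃} C}

/-- A fully faithful, locally essentially surjective functor from a stack to a prestack is an equivalence. -/
theorem isEquivOver_of_locSurjObj (hX : Stk.IsStack J 𝒳) (hY : Stk.IsPrestack J 𝒴) (φ : 𝒳 ⥤ᵇ 𝒴)
    [φ.toFunctor.Full] [φ.toFunctor.Faithful] (h : Gerb.LocSurjObj J φ) : FibCat.IsEquivOver φ := by
  refine isEquivOver_of_exists_iso φ ‹_› ‹_› fun η => ?_
  obtain ⟨R, hR, hR'⟩ := h η
  obtain ⟨G, e, he⟩ := exists_ofObj hY.1 η rfl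
  obtain ⟨H, ⟨eH⟩⟩ := exists_lift_post φ (BasedFunctor.comp (Stk.sieveIncl R) G) (fun a => by
    obtain ⟨x, g, hg⟩ := hR' a.obj.hom a.property
    obtain ⟨j, hj⟩ := exists_iso_at hY.1 G a.obj e.hom he g hg
    exact ⟨x, j, hj⟩)
  have : (Stk.resSieve R 𝒳).IsEquivalence := hX.2 R hR
  let X' := (Stk.resSieve R 𝒳).objPreimage H
  let eX : BasedFunctor.comp (Stk.sieveIncl R) X' ≅ H := (Stk.resSieve R 𝒳).objObjPreimageIso H
  obtain ⟨t⟩ := exists_iso_of_resSieve (hY.2 R hR) (BasedFunctor.comp X' φ) G (whiskerRightIso eX φ ≪≫ eH)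
  have := isoApp_lift t (a := Over.mk (𝟙 (𝒴.p.obj η))) rfl
  refine ⟨X'.obj (Over.mk (𝟙 (𝒴.p.obj η))), isoApp t (Over.mk (𝟙 (𝒴.p.obj η))) ≪≫ e, ?_⟩
  exact @IsHomLift.comp_of_lift_id _ _ _ _ 𝒴.p (𝒴.p.obj η) _ _ _ (isoApp t (Over.mk (𝟙 (𝒴.p.obj η)))).hom e.hom this he

end Groth.Agent.GerbLib
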